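import Cfsg.Agent.Lib.EqualOrderConj.Basic
import Cfsg.Agent.Lib.DefectOne.Principal
import Cfsg.Agent.Lib.Transfer.Burnside
import Cfsg.Agent.S4025
import Cfsg.Agent.S0205

/-!
# The automizer of an elementary abelian Sylow 2-subgroup
-/

set_option autoImplicit false
set_option linter.style.haveILetI false
set_option linter.unusedSectionVars false

namespace Cfsg.Agent.EqualOrderConj

open Cfsg Subgroup

universe u

variable {G : Type u} [Group G] [Finite G] (P : Sylow 2 G)

theorem sylow_comm {x y : G} (hsq : ∀ x ∈ (P : Subgroup G), x * x = 1)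
    (hx : x ∈ (P : Subgroup G)) (hy : y ∈ (P : Subgroup G)) : x * y = y * x := by
  calc x * y = (x * y)⁻¹ := (inv_eq_of_mul_eq_one_right (hsq _ (mul_mem hx hy))).symm
    _ = y * x := by
      rw [mul_inv_rev, inv_eq_of_mul_eq_one_right (hsq x hx),
        inv_eq_of_mul_eq_one_right (hsq y hy)]

theorem centralizer_le_centralizer {t : G} (ht : t ∈ (P : Subgroup G)) :
    centralizer ((P : Subgroup G) : Set G) ≤ centralizer ({t} : Set G) :=
  centralizer_le (Set.singleton_subset_iff.2 ht)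

/-- The automizer has order `(|P| - 1) [C(t) : C(P)]`. -/
theorem relIndex_eq (hC : EqConj G) (hsq : ∀ x ∈ (P : Subgroup G), x * x = 1) {t : G}
    (ht : t ∈ (P : Subgroup G)) (ht1 : t ≠ 1) :
    (centralizer ((P : Subgroup G) : Set G)).relIndex (normalizer ((P : Subgroup G) : Set G)) =
      (centralizer ((P : Subgroup G) : Set G)).relIndex (centralizer ({t} : Set G)) *
        (Nat.card (P : Subgroup G) - 1) := by
  classical
  set N := normalizer ((P : Subgroup G) : Set G)
  set Ct := centralizer ({t} : Set G)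
  rw [← relIndex_mul_relIndex _ Ct N (centralizer_le_centralizer P ht)
    (centralizer_le_normalizer hC P hsq ht ht1)]
  congr 1
  rw [relIndex, index_eq_card]
  set S := Ct.subgroupOf N
  have hmem : ∀ n : N, (n : G) * t * (n : G)⁻¹ ∈ (P : Subgroup G) ∧
      (n : G) * t * (n : G)⁻¹ ≠ 1 := fun n =>
    ⟨(mem_normalizer_iff.1 n.2 t).1 ht, fun h => ht1 (conj_eq_one_iff.1 h)⟩
  rw [Nat.card_congr (Equiv.ofBijective
    (fun c : N ⧸ S => (⟨⟨(c.out : G) * t * (c.out : G)⁻¹, (hmem c.out).1⟩,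
      fun h => (hmem c.out).2 (congrArg Subtype.val h)⟩ : {x : (P : Subgroup G) // x ≠ 1}))
    ⟨?_, ?_⟩)]
  · haveI := Fintype.ofFinite (P : Subgroup G)
    rw [Nat.card_eq_fintype_card, Fintype.card_subtype_compl, Fintype.card_subtype_eq,
      Nat.card_eq_fintype_card]
  · intro a b h
    have h' := congrArg (fun z : {x : (P : Subgroup G) // x ≠ 1} => ((z : (P : Subgroup G)) : G)) h
    simp only at h'
    rw [← Quotient.out_eq a, ← Quotient.out_eq b]
    refine QuotientGroup.eq.2 (mem_subgroupOf.2 (mem_centralizer_singleton_iff.2 ?_))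
    have := congrArg (fun z => (a.out : G)⁻¹ * z * (b.out : G)) h'
    push_cast
    simpa [mul_assoc] using this.symm
  · rintro ⟨⟨x, hx⟩, hx1⟩
    obtain ⟨n, hn, hnx⟩ := exists_normalizer_conj hC P hsq ht ht1 hx
      fun h => hx1 (Subtype.ext h)
    refine ⟨((⟨n, hn⟩ : N) : N ⧸ S), Subtype.ext (Subtype.ext ?_)⟩
    obtain ⟨c, hc⟩ := QuotientGroup.mk_out_eq_mul S (⟨n, hn⟩ : N)
    show ((QuotientGroup.mk (⟨n, hn⟩ : N) : N ⧸ S).out : G) * t *
      ((QuotientGroup.mk (⟨n, hn⟩ : N) : N ⧸ S).out : G)⁻¹ = x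
    rw [hc]
    push_cast
    have hct := mem_centralizer_singleton_iff.1 (mem_subgroupOf.1 c.2)
    rw [show n * ((c : N) : G) * t * (n * ((c : N) : G))⁻¹ =
      n * (((c : N) : G) * t) * ((c : N) : G)⁻¹ * n⁻¹ by group, hct, ← hnx]
    group

/-- The centralizer of `P` is `P` times its odd part. -/
theorem card_centralizer (hsq : ∀ x ∈ (P : Subgroup G), x * x = 1) :
    (pPrimeCore 2 ↥(centralizer ((P : Subgroup G) : Set G))).index = Nat.card (P : Subgroup G) ∧
      ∀ g : centralizer ((P : Subgroup G) : Set G), ¬ 2 ∣ orderOf g →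
        g ∈ pPrimeCore 2 ↥(centralizer ((P : Subgroup G) : Set G)) := by
  haveI : Fact (Nat.Prime 2) := ⟨Nat.prime_two⟩
  set C := centralizer ((P : Subgroup G) : Set G)
  have hPC : (P : Subgroup G) ≤ C := fun x hx =>
    mem_centralizer_iff.2 fun y hy => sylow_comm P hsq hy hx
  have hc : HasNormalPComplement 2 C :=
    Transfer.hasNormalPComplement_of_normalizer_le_centralizer (P.subtype hPC) fun g _ =>
      mem_centralizer_iff.2 fun x hx => Subtype.ext (mem_centralizer_iff.1 g.2 x hx)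
  obtain ⟨h1, h2⟩ := DefectOne.index_pPrimeCore_of_hasNormalPComplement hc
  refine ⟨?_, h2⟩
  rw [h1, ← (P.subtype hPC).card_eq_multiplicity, Sylow.coe_subtype,
    Nat.card_congr (subgroupOfEquivOfLe hPC).toEquiv]

/-- The order of the normalizer modulo its odd core. -/
theorem card_quotient (hsq : ∀ x ∈ (P : Subgroup G), x * x = 1) :
    Nat.card (↥(normalizer ((P : Subgroup G) : Set G)) ⧸
        pPrimeCore 2 ↥(normalizer ((P : Subgroup G) : Set G))) =
      Nat.card (P : Subgroup G) *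
        (centralizer ((P : Subgroup G) : Set G)).relIndex (normalizer ((P : Subgroup G) : Set G)) := by
  haveI : Fact (Nat.Prime 2) := ⟨Nat.prime_two⟩
  obtain ⟨hidx, hodd⟩ := card_centralizer P hsq
  set N := normalizer ((P : Subgroup G) : Set G)
  set C := centralizer ((P : Subgroup G) : Set G)
  set K := pPrimeCore 2 N
  set L := pPrimeCore 2 C
  have hCN : C ≤ N := Subgroup.centralizer_le_normalizer _
  -- the odd core of the normalizer centralizes `P`
  have hKC : ∀ k ∈ K, (k : G) ∈ C := fun k hk => by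
    refine mem_centralizer_iff.2 fun x hx => ?_
    set c : N := ⟨x, le_normalizer hx⟩ * k * ⟨x, le_normalizer hx⟩⁻¹ * k⁻¹
    have hcK : c ∈ K := mul_mem ((pPrimeCore_normal 2 N).conj_mem k hk _) (inv_mem hk)
    have hcP : (c : G) ∈ (P : Subgroup G) := by
      show x * (k : G) * x⁻¹ * (k : G)⁻¹ ∈ (P : Subgroup G)
      rw [show x * (k : G) * x⁻¹ * (k : G)⁻¹ = x * ((k : G) * x⁻¹ * (k : G)⁻¹) by group]
      exact mul_mem hx ((mem_normalizer_iff.1 k.2 _).1 (inv_mem hx))
    have hc1 : c = 1 := by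
      by_contra hne
      have h := (Nat.coprime_two_right.1 PCore.coprime_card_pPrimeCore).of_dvd_nat
        (K.orderOf_dvd_natCard hcK)
      rw [orderOf_eq_prime (p := 2) (Subtype.ext (by simpa [pow_two] using hsq _ hcP)) hne] at h
      exact absurd h (by decide)
    have := congrArg Subtype.val hc1
    simp only [c, coe_mul, coe_one, InvMemClass.coe_inv] at this
    rwa [mul_inv_eq_one, mul_inv_eq_iff_eq_mul] at this
  have hnorm : ∀ (n : N), ∀ l ∈ L, ∀ h : (n : G) * (l : G) * (n : G)⁻¹ ∈ C,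
      (⟨_, h⟩ : C) ∈ L := fun n l hl h => by
    refine hodd _ ?_
    have e : orderOf (⟨_, h⟩ : C) = orderOf l := by
      rw [← Subgroup.orderOf_coe, ← Subgroup.orderOf_coe l]
      exact (MulAut.conj (n : G)).orderOf_eq l
    rw [e, ← Nat.odd_iff.trans Nat.two_dvd_ne_zero.symm]
    exact (Nat.coprime_two_right.1 PCore.coprime_card_pPrimeCore).of_dvd_nat
      (L.orderOf_dvd_natCard hl)
  set L' : Subgroup N := (L.map C.subtype).subgroupOf N
  haveI : L'.Normal := ⟨fun l hl n => by
    obtain ⟨l', hl', e⟩ := mem_subgroupOf.1 hl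
    have h : (n : G) * (l' : G) * (n : G)⁻¹ ∈ C := by
      refine mem_centralizer_iff.2 fun x hx => ?_
      have hx' : (n : G)⁻¹ * x * (n : G) ∈ (P : Subgroup G) := by
        simpa using (mem_normalizer_iff.1 (inv_mem n.2) x).1 hx
      have h1 := mem_centralizer_iff.1 l'.2 _ hx'
      calc x * ((n : G) * (l' : G) * (n : G)⁻¹)
          = (n : G) * ((n : G)⁻¹ * x * (n : G) * (l' : G)) * (n : G)⁻¹ := by group
        _ = (n : G) * ((l' : G) * ((n : G)⁻¹ * x * (n : G))) * (n : G)⁻¹ := by rw [h1]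
        _ = (n : G) * (l' : G) * (n : G)⁻¹ * x := by group
    refine mem_subgroupOf.2 ⟨⟨_, h⟩, hnorm n l' hl' h, ?_⟩
    show (n : G) * (l' : G) * (n : G)⁻¹ = ((n * l * n⁻¹ : N) : G)
    rw [coe_mul, coe_mul, InvMemClass.coe_inv, ← e]
    rfl⟩
  have hL'card : Nat.card L' = Nat.card L := by
    rw [Nat.card_congr (subgroupOfEquivOfLe ((map_subtype_le L).trans hCN)).toEquiv,
      card_map_of_injective C.subtype_injective]
  have hLK : L' = K := by
    refine le_antisymm (PCore.le_pPrimeCore (hL'card ▸ PCore.coprime_card_pPrimeCore)) fun k hk => ?_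
    refine mem_subgroupOf.2 ⟨⟨k, hKC k hk⟩, hodd _ ?_, rfl⟩
    rw [← Subgroup.orderOf_coe, Subgroup.coe_mk, Subgroup.orderOf_coe,
      ← Nat.odd_iff.trans Nat.two_dvd_ne_zero.symm]
    exact (Nat.coprime_two_right.1 PCore.coprime_card_pPrimeCore).of_dvd_nat
      (K.orderOf_dvd_natCard hk)
  have hrel : (C.subgroupOf N).index * (Nat.card (P : Subgroup G) * Nat.card L) = Nat.card N := by
    rw [← hidx, mul_comm L.index, card_mul_index, mul_comm,
      ← Nat.card_congr (subgroupOfEquivOfLe hCN).toEquiv]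
    exact card_mul_index _
  have h3 : Nat.card L * (N ⧸ K |> Nat.card) = Nat.card N := by
    rw [← hL'card, hLK, ← index_eq_card, card_mul_index]
  refine Nat.eq_of_mul_eq_mul_left (Nat.card_pos (α := L)) (h3.trans ?_)
  rw [← hrel, relIndex]
  ring

theorem card_semiaffine {n : ℕ} (hn : n ≠ 0) :
    haveI : Fact (Nat.Prime 2) := ⟨Nat.prime_two⟩
    Nat.card (semiaffineGroup (GaloisField 2 n)) = 2 ^ n * ((2 ^ n - 1) * n) := by
  haveI : Fact (Nat.Prime 2) := ⟨Nat.prime_two⟩
  refine le_antisymm (SameOrderConj.card_semiaffine_le hn) ?_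
  classical
  set R := GaloisField 2 n
  haveI : Finite (R ≃+* R) := Finite.of_injective _ DFunLike.coe_injective
  haveI : Fintype R := Fintype.ofFinite _
  have hAut := (SolvableTransitive.ringAut_facts (R := R) 2 (GaloisField.card 2 n hn)).1
  refine le_trans ?_ (Nat.card_le_card_of_injective
    (fun x : R × Rˣ × (R ≃+* R) =>
      (⟨x.2.2.toEquiv.trans ((Equiv.mulLeft₀ (x.2.1 : R) x.2.1.ne_zero).trans (Equiv.addRight x.1)),
        x.2.1, x.1, x.2.2, fun _ => rfl⟩ : semiaffineGroup R)) ?_)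
  · rw [Nat.card_prod, Nat.card_prod, Nat.card_units, hAut, GaloisField.card 2 n hn]
  · rintro ⟨b, a, φ⟩ ⟨b', a', φ'⟩ h
    have h' : ∀ x, (a : R) * φ x + b = (a' : R) * φ' x + b' := fun x =>
      congrArg (fun s : semiaffineGroup R => (s : Equiv.Perm R) x) h
    have hb : b = b' := by simpa using h' 0
    subst hb
    have ha : a = a' := Units.ext (by simpa using h' 1)
    subst ha
    refine Prod.ext rfl (Prod.ext rfl (RingEquiv.ext fun x => ?_))
    exact mul_left_cancel₀ a.ne_zero (add_right_cancel (h' x))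

theorem card_affine {n : ℕ} (hn : n ≠ 0) :
    haveI : Fact (Nat.Prime 2) := ⟨Nat.prime_two⟩
    Nat.card (affineGroup (GaloisField 2 n)) = 2 ^ n * (2 ^ n - 1) := by
  haveI : Fact (Nat.Prime 2) := ⟨Nat.prime_two⟩
  refine le_antisymm (SameOrderConj.card_affine_le hn) ?_
  classical
  set R := GaloisField 2 n
  haveI : Fintype R := Fintype.ofFinite _
  refine le_trans ?_ (Nat.card_le_card_of_injective
    (fun x : R × Rˣ =>
      (⟨(Equiv.mulLeft₀ (x.2 : R) x.2.ne_zero).trans (Equiv.addRight x.1),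
        x.2, x.1, fun _ => rfl⟩ : affineGroup R)) ?_)
  · rw [Nat.card_prod, Nat.card_units, GaloisField.card 2 n hn]
  · rintro ⟨b, a⟩ ⟨b', a'⟩ h
    have h' : ∀ x, (a : R) * x + b = (a' : R) * x + b' := fun x =>
      congrArg (fun s : affineGroup R => (s : Equiv.Perm R) x) h
    have hb : b = b' := by simpa using h' 0
    subst hb
    exact Prod.ext rfl (Units.ext (by simpa using h' 1))

/-- The cases for an elementary abelian Sylow 2-subgroup of order at least 8. -/
theorem automizer_cases (hC : EqConj G) (hsq : ∀ x ∈ (P : Subgroup G), x * x = 1)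
    (h8 : 8 ≤ Nat.card (P : Subgroup G)) :
    Nat.card (P : Subgroup G) = 8 ∧
        (∀ {t : G}, t ∈ (P : Subgroup G) → t ≠ 1 →
          centralizer ({t} : Set G) ≤ centralizer ((P : Subgroup G) : Set G)) ∧
        Nonempty (↥(normalizer ((P : Subgroup G) : Set G)) ⧸
          pPrimeCore 2 ↥(normalizer ((P : Subgroup G) : Set G)) ≃* affineGroup (GaloisField 2 3)) ∨
      ∃ n w : ℕ, (n = 3 ∧ w = 3 ∨ n = 5 ∧ w = 5) ∧ Nat.card (P : Subgroup G) = 2 ^ n ∧
        (∀ {t : G}, t ∈ (P : Subgroup G) → t ≠ 1 →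
          (centralizer ((P : Subgroup G) : Set G)).relIndex (centralizer ({t} : Set G)) = w) ∧
        (haveI : Fact (Nat.Prime 2) := ⟨Nat.prime_two⟩
        Nonempty (↥(normalizer ((P : Subgroup G) : Set G)) ⧸
          pPrimeCore 2 ↥(normalizer ((P : Subgroup G) : Set G)) ≃* semiaffineGroup (GaloisField 2 n))) := by
  haveI : Fact (Nat.Prime 2) := ⟨Nat.prime_two⟩
  obtain ⟨n, hn⟩ := IsPGroup.iff_card.1 P.2
  have hn3 : 3 ≤ n := by
    by_contra h
    have := Nat.pow_le_pow_right two_pos (show n ≤ 2 by omega)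
    rw [hn] at h8
    omega
  have hel : IsElementaryAbelian 2 (P : Subgroup G) :=
    ⟨⟨⟨fun a b => Subtype.ext (sylow_comm P hsq a.2 b.2)⟩⟩, fun x hx => by rw [pow_two]; exact hsq x hx⟩
  set N := normalizer ((P : Subgroup G) : Set G)
  set K := pPrimeCore 2 N
  have hcard := card_quotient P hsq
  have hsolv : Group.IsSolvable (N ⧸ K) := by
    set Pb := (P.subtype (N := N) le_normalizer : Subgroup N).map (QuotientGroup.mk' K)
    haveI : (P.subtype (N := N) le_normalizer : Subgroup N).Normal := by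
      rw [Sylow.coe_subtype]; exact normal_in_normalizer
    haveI : Pb.Normal := Normal.map inferInstance _ (QuotientGroup.mk'_surjective K)
    haveI : Group.IsNilpotent Pb :=
      (((P.subtype (N := N) le_normalizer).2).map (QuotientGroup.mk' K)).isNilpotent
    haveI : Group.IsSolvable ((N ⧸ K) ⧸ Pb) := by
      refine S0205.result ?_
      have hdvd : Nat.card ((N ⧸ K) ⧸ Pb) ∣ (P.subtype (N := N) le_normalizer : Subgroup N).index := by
        rw [← index_eq_card]
        exact index_map_dvd _ (QuotientGroup.mk'_surjective K)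
      refine Odd.of_dvd_nat (Nat.not_even_iff_odd.1 fun he => ?_) hdvd
      exact (P.subtype (N := N) le_normalizer).not_dvd_index (even_iff_two_dvd.1 he)
    exact Group.isSolvable_of_ker_le_range Pb.subtype (QuotientGroup.mk' Pb) (by simp)
  have hw : ∀ {t : G}, t ∈ (P : Subgroup G) → t ≠ 1 → Nat.card (N ⧸ K) = 2 ^ n *
      ((centralizer ((P : Subgroup G) : Set G)).relIndex (centralizer ({t} : Set G)) * (2 ^ n - 1)) :=
    fun {t} ht ht1 => by rw [hcard, relIndex_eq P hC hsq ht ht1, hn]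
  have hpos : 0 < 2 ^ n - 1 := by
    have := Nat.pow_le_pow_right two_pos hn3
    omega
  have key : ∀ {t : G}, t ∈ (P : Subgroup G) → t ≠ 1 → ∀ w, Nat.card (N ⧸ K) = 2 ^ n * ((2 ^ n - 1) * w) →
      (centralizer ((P : Subgroup G) : Set G)).relIndex (centralizer ({t} : Set G)) = w :=
    fun {t} ht ht1 w e => by
      rw [hw ht ht1, mul_comm (relIndex _ _)] at e
      exact Nat.eq_of_mul_eq_mul_left hpos (Nat.eq_of_mul_eq_mul_left (pow_pos two_pos n) e)
  rcases S4025.result (p := 2) (fun H L _ _ h => hC H L h) P n hn3 hel hn N rfl hsolv with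
    ⟨rfl, -, h3⟩ | ⟨rfl, -, h5⟩
  · rcases h3 rfl with h | h <;> obtain ⟨e⟩ := h
    · refine Or.inr ⟨3, 3, Or.inl ⟨rfl, rfl⟩, hn, fun ht ht1 => key ht ht1 3 ?_, ⟨e⟩⟩
      rw [Nat.card_congr e.toEquiv, card_semiaffine (by norm_num)]
    · refine Or.inl ⟨by rw [hn]; norm_num, fun ht ht1 => relIndex_eq_one.1 (key ht ht1 1 ?_), ⟨e⟩⟩
      rw [Nat.card_congr e.toEquiv, card_affine (by norm_num), mul_one]
  · obtain ⟨e⟩ := h5
    refine Or.inr ⟨5, 5, Or.inr ⟨rfl, rfl⟩, hn, fun ht ht1 => key ht ht1 5 ?_, ⟨e⟩⟩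
    rw [Nat.card_congr e.toEquiv, card_semiaffine (by norm_num)]

end Cfsg.Agent.EqualOrderConj
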