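import Cfsg.Agent.S0200
import Cfsg.Agent.Lib.PCore.Basic
import Mathlib.GroupTheory.Sylow
import Mathlib.GroupTheory.SchurZassenhaus

/-!
# Groups in which subgroups of equal order are conjugate: the local structure at the prime 2

The key point: for an odd prime `r`, a cyclic and a dihedral subgroup of order `2 r` cannot both
occur, so an element of odd order commuting with an involution is never inverted by an involution.
-/

set_option autoImplicit false
set_option linter.style.haveILetI false
set_option linter.unusedSectionVars false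

namespace Cfsg.Agent.EqualOrderConj

open Cfsg Subgroup

universe u

variable {G : Type u} [Group G]

/-- Any two subgroups of the same order are conjugate. -/
def EqConj (G : Type u) [Group G] : Prop :=
  ∀ H K : Subgroup G, Nat.card H = Nat.card K → ∃ g : G, K = H.map (MulAut.conj g).toMonoidHom

variable [Finite G]

theorem inv_of_order_two {t : G} (ht : orderOf t = 2) : t⁻¹ = t :=
  inv_eq_of_mul_eq_one_right (by rw [← pow_two, ← ht, pow_orderOf_eq_one])

/-- An element of odd prime order commuting with an involution excludes an element of the same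
order inverted by an involution. -/
theorem false_of_prime (hC : EqConj G) {r : ℕ} (hr : r.Prime) (hodd : r ≠ 2) {t x u y : G}
    (ht : orderOf t = 2) (hx : orderOf x = r) (htx : t * x = x * t)
    (hu : orderOf u = 2) (hy : orderOf y = r) (huy : u * y * u⁻¹ = y⁻¹) : False := by
  have hcop : (orderOf t).Coprime (orderOf x) := by
    rw [ht, hx]; exact (Nat.coprime_primes Nat.prime_two hr).2 (Ne.symm hodd)
  have hle : zpowers u ≤ normalizer (zpowers y : Set G) := by
    refine zpowers_le.2 (mem_normalizer_iff.2 fun z => ?_)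
    have key : ∀ z ∈ zpowers y, u * z * u⁻¹ ∈ zpowers y := by
      intro z hz
      obtain ⟨i, rfl⟩ := mem_zpowers_iff.1 hz
      rw [← conj_zpow, huy, inv_zpow']
      exact zpow_mem (mem_zpowers y) _
    refine ⟨key z, fun h => ?_⟩
    have h2 := key _ h
    rwa [inv_of_order_two hu, show u * (u * z * u) * u = (u * u) * z * (u * u) by group,
      ← pow_two, ← hu, pow_orderOf_eq_one, one_mul, mul_one] at h2
  have hdisj : Disjoint (zpowers y) (zpowers u) :=
    disjoint_of_coprime_natCard (by
      rw [Nat.card_zpowers, Nat.card_zpowers, hy, hu]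
      exact (Nat.coprime_primes hr Nat.prime_two).2 hodd)
  have hK : Nat.card (zpowers y ⊔ zpowers u : Subgroup G) = 2 * r := by
    have h1 : Nat.card (zpowers y ⊔ zpowers u : Subgroup G) =
        Nat.card (zpowers y × zpowers u) := by
      refine (Nat.card_congr (Equiv.ofBijective (fun z : zpowers y × zpowers u =>
        (⟨(z.1 : G) * z.2, mul_mem (mem_sup_left z.1.2) (mem_sup_right z.2.2)⟩ :
          (zpowers y ⊔ zpowers u : Subgroup G))) ⟨?_, ?_⟩)).symm
      · intro a b h
        exact mul_injective_of_disjoint hdisj (congrArg Subtype.val h)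
      · rintro ⟨z, hz⟩
        rw [← SetLike.mem_coe, coe_mul_of_right_le_normalizer_left _ _ hle] at hz
        obtain ⟨a, ha, b, hb, rfl⟩ := hz
        exact ⟨(⟨a, ha⟩, ⟨b, hb⟩), rfl⟩
    rw [h1, Nat.card_prod, Nat.card_zpowers, Nat.card_zpowers, hy, hu, mul_comm]
  obtain ⟨g, hg⟩ := hC (zpowers (t * x)) (zpowers y ⊔ zpowers u) (by
    rw [hK, Nat.card_zpowers, Commute.orderOf_mul_eq_mul_orderOf_of_coprime htx hcop, ht, hx])
  have hmem : ∀ z ∈ (zpowers y ⊔ zpowers u : Subgroup G), ∀ w ∈ (zpowers y ⊔ zpowers u : Subgroup G),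
      z * w = w * z := by
    rw [hg, MonoidHom.map_zpowers]
    intro z hz w hw
    obtain ⟨i, rfl⟩ := mem_zpowers_iff.1 hz
    obtain ⟨j, rfl⟩ := mem_zpowers_iff.1 hw
    exact (Commute.refl _).zpow_zpow i j
  have hcomm := hmem u (mem_sup_right (mem_zpowers u)) y (mem_sup_left (mem_zpowers y))
  rw [hcomm, mul_inv_cancel_right, eq_inv_iff_mul_eq_one, ← pow_two] at huy
  have hdvd : r ∣ 2 := hy ▸ orderOf_dvd_of_pow_eq_one huy
  exact hodd ((Nat.prime_two.eq_one_or_self_of_dvd r hdvd).resolve_left hr.one_lt.ne')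

/-- An element of odd order commuting with an involution is inverted by no involution. -/
theorem false_of_inverted (hC : EqConj G) {t h u : G} (ht : orderOf t = 2) (hodd : Odd (orderOf h))
    (h1 : h ≠ 1) (hth : t * h = h * t) (hu : orderOf u = 2) (huh : u * h * u⁻¹ = h⁻¹) : False := by
  set r := (orderOf h).minFac
  have hne : orderOf h ≠ 1 := fun e => h1 (orderOf_eq_one_iff.1 e)
  have hr : r.Prime := Nat.minFac_prime hne
  have hr2 : r ≠ 2 := fun e => by
    have hd : 2 ∣ orderOf h := e ▸ Nat.minFac_dvd _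
    rcases hodd with ⟨k, hk⟩
    omega
  have ho : orderOf (h ^ (orderOf h / r)) = r :=
    orderOf_pow_orderOf_div (orderOf_pos h).ne' (Nat.minFac_dvd _)
  exact false_of_prime hC hr hr2 ht ho ((show Commute t h from hth).pow_right _) hu ho (by
    rw [← conj_pow, huh, inv_pow])

/-- With an elementary abelian Sylow 2-subgroup, the centralizer of each of its involutions
normalizes it. -/
theorem centralizer_le_normalizer (hC : EqConj G) (P : Sylow 2 G)
    (hsq : ∀ x ∈ (P : Subgroup G), x * x = 1) {t : G} (htP : t ∈ (P : Subgroup G)) (ht1 : t ≠ 1) :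
    centralizer ({t} : Set G) ≤ normalizer ((P : Subgroup G) : Set G) := by
  haveI : Fact (Nat.Prime 2) := ⟨Nat.prime_two⟩
  set C := centralizer ({t} : Set G)
  have hto : orderOf t = 2 := orderOf_eq_prime (by rw [pow_two]; exact hsq t htP) ht1
  have hPC : (P : Subgroup G) ≤ C := fun x hx => mem_centralizer_singleton_iff.2 (by
    have h1 := hsq _ (mul_mem hx htP)
    calc x * t = (x * t)⁻¹ := (inv_eq_of_mul_eq_one_right h1).symm
      _ = t * x := by
        rw [mul_inv_rev, inv_eq_of_mul_eq_one_right (hsq x hx),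
          inv_eq_of_mul_eq_one_right (hsq t htP)])
  have hcore : (P.subtype hPC : Subgroup C) ≤ pCore 2 C := by
    intro v hv
    by_cases hv1 : v = 1
    · rw [hv1]; exact one_mem _
    have hvo : orderOf v = 2 := orderOf_eq_prime
      (Subtype.ext (by simpa [pow_two] using hsq v hv)) hv1
    by_contra hvn
    obtain ⟨h, hh1, hhodd, hinv⟩ := S0200.result v hvo fun N hN hN2 hvN =>
      hvn (haveI := hN; PCore.le_pCore hN2 hvN)
    refine false_of_inverted hC hto (h := (h : G)) ?_ (fun e => hh1 (Subtype.ext e))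
      (mem_centralizer_singleton_iff.1 h.2).symm (u := (v : G)) ?_
      (congrArg Subtype.val hinv)
    · rwa [Subgroup.orderOf_coe]
    · rwa [Subgroup.orderOf_coe]
  have heq : (P.subtype hPC : Subgroup C) = pCore 2 C :=
    ((P.subtype hPC).is_maximal' (PCore.isPGroup_pCore (p := 2)) hcore).symm
  have hn : (P.subtype hPC : Subgroup C).Normal := heq ▸ pCore_normal 2 C
  intro c hc
  refine mem_normalizer_iff.2 fun x => ⟨fun hx => ?_, fun hx => ?_⟩
  · exact hn.conj_mem ⟨x, hPC hx⟩ hx ⟨c, hc⟩
  · have := hn.conj_mem ⟨c * x * c⁻¹, hPC hx⟩ hx ⟨c, hc⟩⁻¹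
    simpa [mem_subgroupOf, mul_assoc] using this

/-- All involutions are conjugate. -/
theorem isConj_involutions (hC : EqConj G) {t u : G} (ht : orderOf t = 2) (hu : orderOf u = 2) :
    ∃ g : G, g * t * g⁻¹ = u := by
  obtain ⟨g, hg⟩ := hC (zpowers t) (zpowers u) (by rw [Nat.card_zpowers, Nat.card_zpowers, ht, hu])
  have hmem : g * t * g⁻¹ ∈ zpowers u := hg ▸ ⟨t, mem_zpowers t, rfl⟩
  refine ⟨g, ?_⟩
  obtain ⟨i, hi⟩ := mem_zpowers_iff.1 hmem
  rcases Int.emod_two_eq_zero_or_one i with e | e
  · exfalso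
    rw [← zpow_mod_orderOf, hu, Nat.cast_ofNat, e, zpow_zero] at hi
    rw [conj_eq_one_iff.1 hi.symm, orderOf_one] at ht
    exact absurd ht (by norm_num)
  · rw [← hi, ← zpow_mod_orderOf, hu, Nat.cast_ofNat, e, zpow_one]

/-- The involutions of an abelian Sylow 2-subgroup are conjugate in its normalizer. -/
theorem exists_normalizer_conj (hC : EqConj G) (P : Sylow 2 G)
    (hsq : ∀ x ∈ (P : Subgroup G), x * x = 1) {a b : G} (ha : a ∈ (P : Subgroup G)) (ha1 : a ≠ 1)
    (hb : b ∈ (P : Subgroup G)) (hb1 : b ≠ 1) :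
    ∃ n ∈ normalizer ((P : Subgroup G) : Set G), n * a * n⁻¹ = b := by
  haveI : Fact (Nat.Prime 2) := ⟨Nat.prime_two⟩
  haveI : IsMulCommutative (P : Subgroup G) := ⟨⟨fun x y => Subtype.ext (by
    have h1 := hsq _ (mul_mem x.2 y.2)
    show (x : G) * y = y * x
    calc (x : G) * y = ((x : G) * y)⁻¹ := (inv_eq_of_mul_eq_one_right h1).symm
      _ = y * x := by
        rw [mul_inv_rev, inv_eq_of_mul_eq_one_right (hsq x x.2),
          inv_eq_of_mul_eq_one_right (hsq y y.2)])⟩⟩
  obtain ⟨g, hg⟩ := isConj_involutions hC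
    (orderOf_eq_prime (by rw [pow_two]; exact hsq a ha) ha1)
    (orderOf_eq_prime (by rw [pow_two]; exact hsq b hb) hb1)
  obtain ⟨n, hn, he⟩ := Sylow.conj_eq_normalizer_conj_of_mem P a g⁻¹ ha
    (by rw [inv_inv, hg]; exact hb)
  refine ⟨n⁻¹, inv_mem hn, ?_⟩
  rw [inv_inv] at he ⊢
  rw [← he, hg]

/-- The hypothesis passes to quotients. -/
theorem eqConj_quotient (hC : EqConj G) (N : Subgroup G) [N.Normal] : EqConj (G ⧸ N) := by
  intro H K h
  set f := QuotientGroup.mk' N
  have hcard : ∀ L : Subgroup (G ⧸ N), Nat.card (L.comap f) = Nat.card N * Nat.card L := by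
    intro L
    have h1 := (L.comap f).card_mul_index
    rw [index_comap_of_surjective L (QuotientGroup.mk'_surjective N), ← N.card_mul_index,
      index_eq_card N, ← L.card_mul_index, ← mul_assoc] at h1
    exact Nat.eq_of_mul_eq_mul_right (Nat.pos_of_ne_zero index_ne_zero_of_finite) h1
  obtain ⟨g, hg⟩ := hC (H.comap f) (K.comap f) (by rw [hcard, hcard, h])
  refine ⟨f g, ?_⟩
  have hK := congrArg (Subgroup.map f) hg
  rw [map_comap_eq_self_of_surjective (QuotientGroup.mk'_surjective N), map_map] at hK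
  rw [hK]
  conv_rhs => rw [← map_comap_eq_self_of_surjective (QuotientGroup.mk'_surjective N) H, map_map]
  congr 1

end Cfsg.Agent.EqualOrderConj
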