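import Cfsg.Agent.Lib.EqualOrderConj.Automizer
import Cfsg.Agent.S4023
import Mathlib.GroupTheory.PGroup

/-!
# The kernel at the prime dividing the stabilizer of an involution

When an element of prime order `w` centralizes one involution of the Sylow 2-subgroup without
centralizing all of it, the Sylow `w`-subgroup is cyclic and central in its normalizer.
-/

set_option autoImplicit false
set_option linter.style.haveILetI false
set_option linter.unusedSectionVars false

namespace Cfsg.Agent.EqualOrderConj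

open Cfsg Subgroup

universe u

variable {G : Type u} [Group G] [Finite G] (P : Sylow 2 G)

theorem card_centralizer_conj (g x : G) :
    Nat.card (centralizer ({g * x * g⁻¹} : Set G)) = Nat.card (centralizer ({x} : Set G)) := by
  refine (Nat.card_congr ((MulAut.conj g).toEquiv.subtypeEquiv fun y => ?_)).symm
  simp only [mem_centralizer_singleton_iff]
  change y * x = x * y ↔ (g * y * g⁻¹) * (g * x * g⁻¹) = (g * x * g⁻¹) * (g * y * g⁻¹)
  rw [show g * y * g⁻¹ * (g * x * g⁻¹) = g * (y * x) * g⁻¹ by group,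
    show g * x * g⁻¹ * (g * y * g⁻¹) = g * (x * y) * g⁻¹ by group]
  simp

/-- A generator of a conjugate subgroup of prime order has a centralizer of the same order. -/
theorem card_centralizer_eq_of_eqConj (hC : EqConj G) {w : ℕ} (hw : w.Prime) {x y : G}
    (hx : orderOf x = w) (hy : orderOf y = w) :
    Nat.card (centralizer ({y} : Set G)) = Nat.card (centralizer ({x} : Set G)) := by
  obtain ⟨g, hg⟩ := hC (zpowers x) (zpowers y) (by rw [Nat.card_zpowers, Nat.card_zpowers, hx, hy])
  rw [← card_centralizer_conj g x]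
  have hm : g * x * g⁻¹ ∈ zpowers y := hg ▸ ⟨x, mem_zpowers x, rfl⟩
  have hm' : y ∈ zpowers (g * x * g⁻¹) := by
    have h1 : zpowers (g * x * g⁻¹) = zpowers y := eq_of_le_of_card_ge (zpowers_le.2 hm) (le_of_eq (by
      rw [Nat.card_zpowers, Nat.card_zpowers, hy, show orderOf (g * x * g⁻¹) = w from
        ((MulAut.conj g).orderOf_eq x).trans hx]))
    exact h1 ▸ mem_zpowers y
  congr 2
  refine le_antisymm (fun c hc => ?_) (fun c hc => ?_)
  · obtain ⟨i, hi⟩ := mem_zpowers_iff.1 hm
    exact mem_centralizer_singleton_iff.2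
      (hi ▸ ((show Commute c y from mem_centralizer_singleton_iff.1 hc).zpow_right i).eq)
  · obtain ⟨i, hi⟩ := mem_zpowers_iff.1 hm'
    exact mem_centralizer_singleton_iff.2
      (hi ▸ ((show Commute c (g * x * g⁻¹) from mem_centralizer_singleton_iff.1 hc).zpow_right i).eq)

/-- A 2-element of the normalizer of `P` lies in `P`. -/
theorem mem_of_two_element {r : G} (hr : r ∈ normalizer ((P : Subgroup G) : Set G)) {k : ℕ}
    (hrk : orderOf r = 2 ^ k) : r ∈ (P : Subgroup G) := by
  haveI : Fact (Nat.Prime 2) := ⟨Nat.prime_two⟩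
  have hR : IsPGroup 2 (zpowers r) := IsPGroup.of_card (n := k) (by rw [Nat.card_zpowers, hrk])
  have hsup : IsPGroup 2 (zpowers r ⊔ (P : Subgroup G) : Subgroup G) :=
    hR.to_sup_of_normal_right' P.2 (zpowers_le.2 hr)
  exact P.is_maximal' hsup le_sup_right ▸ mem_sup_left (mem_zpowers r)

/-- The 2-part of the centralizer of an element of order `w`. -/
theorem not_four_dvd (hC : EqConj G) (hsq : ∀ x ∈ (P : Subgroup G), x * x = 1) {n w : ℕ}
    (hnw : n = 3 ∧ w = 3 ∨ n = 5 ∧ w = 5) (hn : Nat.card (P : Subgroup G) = 2 ^ n) {t x : G}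
    (ht : t ∈ (P : Subgroup G)) (ht1 : t ≠ 1) (hx : orderOf x = w)
    (hxt : x ∈ centralizer ({t} : Set G)) (hxP : x ∉ centralizer ((P : Subgroup G) : Set G)) :
    ¬ 4 ∣ Nat.card (centralizer ({x} : Set G)) := by
  haveI : Fact (Nat.Prime 2) := ⟨Nat.prime_two⟩
  intro h4
  have hwp : w.Prime := by rcases hnw with ⟨-, rfl⟩ | ⟨-, rfl⟩ <;> norm_num
  haveI : Fact w.Prime := ⟨hwp⟩
  have hto : orderOf t = 2 := orderOf_eq_prime (by rw [pow_two]; exact hsq t ht) ht1
  set C := centralizer ({x} : Set G)
  have htC : t ∈ C := mem_centralizer_singleton_iff.2 (mem_centralizer_singleton_iff.1 hxt).symm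
  obtain ⟨R, hR⟩ := (IsPGroup.of_card (n := 1) (by
    rw [Nat.card_zpowers, Subgroup.orderOf_mk, hto, pow_one]) :
      IsPGroup 2 (zpowers (⟨t, htC⟩ : C))).exists_le_sylow
  have hR4 : 4 ∣ Nat.card (R : Subgroup C) := by
    rw [R.card_eq_multiplicity]
    exact Nat.pow_dvd_pow 2 ((Nat.prime_two.pow_dvd_iff_le_factorization Nat.card_pos.ne').1
      (show 2 ^ 2 ∣ Nat.card C from h4))
  obtain ⟨Q, hQ⟩ := (R.2.map C.subtype).exists_le_sylow
  obtain ⟨g, hg⟩ := MulAction.exists_smul_eq G Q P
  have hRP : ∀ r ∈ (R : Subgroup C), (r : G) ∈ (P : Subgroup G) := by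
    intro r hr
    have hc : ∀ a ∈ (Q : Subgroup G), ∀ b ∈ (Q : Subgroup G), a * b = b * a := fun a ha b hb => by
      have h1 : g * a * g⁻¹ ∈ (P : Subgroup G) := hg ▸ ⟨a, ha, rfl⟩
      have h2 : g * b * g⁻¹ ∈ (P : Subgroup G) := hg ▸ ⟨b, hb, rfl⟩
      have := sylow_comm P hsq h1 h2
      rw [show g * a * g⁻¹ * (g * b * g⁻¹) = g * (a * b) * g⁻¹ by group,
        show g * b * g⁻¹ * (g * a * g⁻¹) = g * (b * a) * g⁻¹ by group] at this
      exact mul_left_cancel (mul_right_cancel this)
    obtain ⟨k, hk⟩ := R.2 ⟨r, hr⟩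
    obtain ⟨j, -, hj⟩ := (Nat.dvd_prime_pow Nat.prime_two).1 (orderOf_dvd_of_pow_eq_one
      (show (r : G) ^ 2 ^ k = 1 from congrArg (fun z : (R : Subgroup C) => ((z : C) : G)) hk))
    refine mem_of_two_element P (centralizer_le_normalizer hC P hsq ht ht1
      (mem_centralizer_singleton_iff.2 (hc _ (hQ ⟨r, hr, rfl⟩) _
        (hQ ⟨⟨t, htC⟩, hR (mem_zpowers _), rfl⟩)))) hj
  -- the fixed points of `x` on `P`
  set F := (P : Subgroup G) ⊓ C
  have hxN : x ∈ normalizer ((P : Subgroup G) : Set G) := centralizer_le_normalizer hC P hsq ht ht1 hxt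
  have hmod : Nat.card (P : Subgroup G) ≡ Nat.card F [MOD w] := by
    let act : MulAction (zpowers x) (P : Subgroup G) :=
      { smul := fun c v => ⟨(c : G) * v * (c : G)⁻¹,
          (mem_normalizer_iff.1 (zpowers_le.2 hxN c.2) _).1 v.2⟩
        one_smul := fun v => Subtype.ext (show (1 : G) * v * (1 : G)⁻¹ = v by group)
        mul_smul := fun c d v => Subtype.ext (show ((c : G) * d) * v * ((c : G) * d)⁻¹ =
          (c : G) * ((d : G) * v * (d : G)⁻¹) * (c : G)⁻¹ by group) }
    letI := act
    refine ((IsPGroup.of_card (n := 1) (by rw [Nat.card_zpowers, hx, pow_one]) :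
      IsPGroup w (zpowers x)).card_modEq_card_fixedPoints (P : Subgroup G)).trans ?_
    refine Eq.subst (motive := fun k => k ≡ Nat.card F [MOD w]) ?_ (Nat.ModEq.refl _)
    refine Nat.card_congr
      { toFun := fun v => ⟨⟨v, v.2.1⟩, fun c => Subtype.ext (mul_inv_eq_iff_eq_mul.2 ?_)⟩
        invFun := fun v => ⟨v.1, v.1.2, mem_centralizer_singleton_iff.2 (mul_inv_eq_iff_eq_mul.1
          (congrArg Subtype.val (v.2 ⟨x, mem_zpowers x⟩))).symm⟩
        left_inv := fun v => rfl
        right_inv := fun v => rfl }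
    obtain ⟨i, hi⟩ := mem_zpowers_iff.1 c.2
    rw [← hi]
    exact ((show Commute (v : G) x from mem_centralizer_singleton_iff.1 v.2.2).zpow_right i).symm.eq
  obtain ⟨j, hj, hjF⟩ := (Nat.dvd_prime_pow Nat.prime_two).1
    (hn ▸ card_dvd_of_le (inf_le_left : F ≤ (P : Subgroup G)))
  have hRF : Nat.card (R : Subgroup C) ≤ Nat.card F := by
    rw [← card_map_of_injective C.subtype_injective]
    refine card_le_of_le ?_
    rintro _ ⟨r, hr, rfl⟩
    exact ⟨hRP r hr, r.2⟩
  have hj2 : 2 ≤ j := by
    have h1 := Nat.le_of_dvd Nat.card_pos hR4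
    by_contra h
    have := Nat.pow_le_pow_right two_pos (show j ≤ 1 by omega)
    rw [hjF] at hRF
    omega
  have hjn : j ≠ n := fun e => hxP (by
    have hFP : F = (P : Subgroup G) :=
      eq_of_le_of_card_ge inf_le_left (le_of_eq (by rw [hn, hjF, e]))
    exact mem_centralizer_iff.2 fun v hv =>
      mem_centralizer_singleton_iff.1 ((hFP.ge hv).2))
  rw [hn, hjF] at hmod
  rcases hnw with ⟨rfl, rfl⟩ | ⟨rfl, rfl⟩ <;> interval_cases j <;>
    simp [Nat.ModEq] at hmod hjn

/-- The Sylow `w`-subgroup is cyclic and has a normal complement. -/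
theorem exists_kernel (hC : EqConj G) (hsq : ∀ x ∈ (P : Subgroup G), x * x = 1) {n w : ℕ}
    (hnw : n = 3 ∧ w = 3 ∨ n = 5 ∧ w = 5) (hn : Nat.card (P : Subgroup G) = 2 ^ n)
    (hrel : ∀ {t : G}, t ∈ (P : Subgroup G) → t ≠ 1 →
      (centralizer ((P : Subgroup G) : Set G)).relIndex (centralizer ({t} : Set G)) = w) :
    ∃ K : Subgroup G, K.Normal ∧ (∃ a, 1 ≤ a ∧ K.index = w ^ a) ∧ ¬ w ∣ Nat.card K := by
  classical
  have hwp : w.Prime := by rcases hnw with ⟨-, rfl⟩ | ⟨-, rfl⟩ <;> norm_num
  have hw2 : w ≠ 2 := by rcases hnw with ⟨-, rfl⟩ | ⟨-, rfl⟩ <;> norm_num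
  haveI : Fact w.Prime := ⟨hwp⟩
  haveI : Fact (Nat.Prime 2) := ⟨Nat.prime_two⟩
  obtain ⟨t, ht, ht1⟩ : ∃ t ∈ (P : Subgroup G), t ≠ 1 := by
    by_contra h
    push Not at h
    rw [(eq_bot_iff_forall _).2 h, card_bot] at hn
    rcases hnw with ⟨rfl, -⟩ | ⟨rfl, -⟩ <;> norm_num at hn
  have hto : orderOf t = 2 := orderOf_eq_prime (by rw [pow_two]; exact hsq t ht) ht1
  set Ct := centralizer ({t} : Set G)
  set CP := centralizer ((P : Subgroup G) : Set G)
  have hrel' : CP.relIndex Ct = w := hrel ht ht1
  obtain ⟨T⟩ : Nonempty (Sylow w G) := inferInstance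
  -- an element of order `w` centralizes an involution
  obtain ⟨x₀, hx₀⟩ := exists_prime_orderOf_dvd_card' w
    (G := Ct) (hrel' ▸ relIndex_dvd_card CP Ct)
  have hx₀' : orderOf (x₀ : G) = w := by rwa [Subgroup.orderOf_coe]
  have hnoinv : ∀ {u y : G}, orderOf u = 2 → orderOf y = w → u * y * u⁻¹ ≠ y⁻¹ := fun hu hy h =>
    false_of_prime hC hwp hw2 hto hx₀' (mem_centralizer_singleton_iff.1 x₀.2).symm hu hy h
  have hwdvd : w ∣ Nat.card G := hx₀' ▸ orderOf_dvd_natCard _
  by_cases hcyc : IsCyclic T
  · -- Burnside's transfer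
    haveI := hcyc
    have hNC : normalizer ((T : Subgroup G) : Set G) ≤ centralizer ((T : Subgroup G) : Set G) := by
      intro g hg
      obtain ⟨⟨a, haT⟩, ha⟩ := IsCyclic.exists_generator (α := (T : Subgroup G))
      have hgen : ∀ b ∈ (T : Subgroup G), ∃ i : ℤ, a ^ i = b := fun b hb => by
        obtain ⟨i, hi⟩ := mem_zpowers_iff.1 (ha ⟨b, hb⟩)
        exact ⟨i, congrArg Subtype.val hi⟩
      -- conjugation acts as a power map
      let φ : normalizer ((T : Subgroup G) : Set G) →* MulAut (T : Subgroup G) :=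
        (T : Subgroup G).normalizerMonoidHom
      have hker : ∀ h : normalizer ((T : Subgroup G) : Set G), φ h = 1 →
          (h : G) ∈ centralizer ((T : Subgroup G) : Set G) := fun h hh => by
        refine mem_centralizer_iff.2 fun b hb => ?_
        have := congrArg (fun ψ : MulAut (T : Subgroup G) => ((ψ ⟨b, hb⟩ : (T : Subgroup G)) : G)) hh
        exact (mul_inv_eq_iff_eq_mul.1 this).symm
      refine hker ⟨g, hg⟩ ?_
      by_contra hne
      -- the order of the image is a power of 2
      set A := φ.range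
      have hTcard := T.card_eq_multiplicity
      set m := (Nat.card G).factorization w
      have hm : 0 < m := hwp.factorization_pos_of_dvd Nat.card_pos.ne' hwdvd
      have hA1 : Nat.card A ∣ w ^ (m - 1) * (w - 1) := by
        refine (card_subgroup_dvd_card A).trans ?_
        rw [IsCyclic.card_mulAut, hTcard, Nat.totient_prime_pow hwp hm]
      have hTN : (T : Subgroup G) ≤ normalizer ((T : Subgroup G) : Set G) := le_normalizer
      have hA2 : ¬ w ∣ Nat.card A := by
        intro h
        have hle : ((T : Subgroup G).subgroupOf (normalizer ((T : Subgroup G) : Set G))) ≤ φ.ker := by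
          intro h hh
          refine MulEquiv.ext fun b => Subtype.ext ?_
          show (h : G) * b * (h : G)⁻¹ = b
          obtain ⟨i, hi⟩ := hgen _ (mem_subgroupOf.1 hh)
          obtain ⟨j, hj⟩ := hgen _ b.2
          rw [← hi, ← hj, ((Commute.refl a).zpow_zpow i j).eq, mul_inv_cancel_right]
        have h2 := dvd_trans (index_ker φ ▸ h : w ∣ φ.ker.index) (index_dvd_of_le hle)
        exact (T.subtype hTN).not_dvd_index h2
      have hA3 : Nat.card A ∣ w - 1 :=
        ((hwp.coprime_iff_not_dvd.2 hA2).pow_left (m - 1)).symm.dvd_of_dvd_mul_left hA1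
      obtain ⟨i, hi⟩ : ∃ i, Nat.card A = 2 ^ i := by
        have h24 : w - 1 ∣ 2 ^ 2 := by rcases hnw with ⟨-, rfl⟩ | ⟨-, rfl⟩ <;> norm_num
        obtain ⟨i, -, hi⟩ := (Nat.dvd_prime_pow Nat.prime_two).1 (hA3.trans h24)
        exact ⟨i, hi⟩
      -- an element inducing an involution
      have hA : φ ⟨g, hg⟩ ∈ A := ⟨_, rfl⟩
      have hAne : A ≠ ⊥ := fun e => hne (mem_bot.1 (e ▸ hA))
      have hA2' : 2 ∣ Nat.card A := by
        rw [hi]
        refine dvd_pow_self 2 fun e => hAne ?_
        rw [e, pow_zero] at hi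
        exact card_eq_one.1 hi
      obtain ⟨α₀, hα₀⟩ := exists_prime_orderOf_dvd_card' 2 hA2'
      obtain ⟨h, hh⟩ := α₀.2
      have hα : orderOf (φ h) = 2 := by rw [hh, Subgroup.orderOf_coe]; exact hα₀
      -- its 2-part is an involution
      set o := orderOf h
      have hh2 : ∃ u : normalizer ((T : Subgroup G) : Set G), orderOf u = 2 ∧ φ u = φ h := by
        have h2o : 2 ∣ o := hα ▸ orderOf_map_dvd φ h
        set l := ordCompl[2] o
        have hl : Odd l := Nat.odd_iff.2 (Nat.two_dvd_ne_zero.1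
          (Nat.not_dvd_ordCompl Nat.prime_two (orderOf_pos h).ne'))
        refine ⟨h ^ l, ?_, ?_⟩
        · have hord : orderOf (h ^ l) = 2 ^ o.factorization 2 := by
            rw [orderOf_pow' _ (Nat.ordCompl_pos 2 (orderOf_pos h).ne').ne',
              Nat.gcd_eq_right (Nat.ordCompl_dvd o 2)]
            exact Nat.div_eq_of_eq_mul_left (Nat.ordCompl_pos 2 (orderOf_pos h).ne')
              (Nat.ordProj_mul_ordCompl_eq_self o 2).symm
          obtain ⟨Q, hQ⟩ := (IsPGroup.of_card (n := o.factorization 2) (by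
            rw [Nat.card_zpowers, Subgroup.orderOf_coe, hord]) :
              IsPGroup 2 (zpowers ((h ^ l : normalizer ((T : Subgroup G) : Set G)) : G))).exists_le_sylow
          obtain ⟨g₁, hg₁⟩ := MulAction.exists_smul_eq G Q P
          have h1 : g₁ * ((h ^ l : normalizer ((T : Subgroup G) : Set G)) : G) * g₁⁻¹ ∈
              (P : Subgroup G) := hg₁ ▸ ⟨_, hQ (mem_zpowers _), rfl⟩
          refine orderOf_eq_prime (Subtype.ext ?_) ?_
          · have h2 := hsq _ h1
            rw [show g₁ * _ * g₁⁻¹ * (g₁ * _ * g₁⁻¹) = g₁ * (((h ^ l : normalizer ((T : Subgroup G) : Set G)) : G) *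
              ((h ^ l : normalizer ((T : Subgroup G) : Set G)) : G)) * g₁⁻¹ by group,
              conj_eq_one_iff] at h2
            simpa [pow_two] using h2
          · intro e
            rw [e, orderOf_one] at hord
            have := (Nat.prime_two.factorization_pos_of_dvd (orderOf_pos h).ne' h2o)
            exact absurd hord (ne_of_lt (Nat.one_lt_pow this.ne' (by norm_num)))
        · rw [map_pow]
          obtain ⟨k, hk⟩ := hl
          rw [hk, pow_succ, pow_mul, ← hα, pow_orderOf_eq_one, one_pow, one_mul]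
      obtain ⟨u, hu, huφ⟩ := hh2
      have hu2 : orderOf (u : G) = 2 := by rwa [Subgroup.orderOf_coe]
      obtain ⟨b, hb⟩ : ∃ b : (T : Subgroup G), φ u b ≠ b := by
        by_contra hall
        push Not at hall
        rw [show φ u = 1 from MulEquiv.ext hall] at huφ
        rw [← huφ, orderOf_one] at hα
        exact absurd hα (by norm_num)
      -- the commutator is inverted
      set c := (b : G)⁻¹ * ((u : G) * b * (u : G)⁻¹)
      have hcT : c ∈ (T : Subgroup G) :=
        mul_mem (inv_mem b.2) ((mem_normalizer_iff.1 u.2 _).1 b.2)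
      have hc1 : c ≠ 1 := fun e => hb (Subtype.ext (inv_mul_eq_one.1 e).symm)
      have hcinv : (u : G) * c * (u : G)⁻¹ = c⁻¹ := by
        show (u : G) * ((b : G)⁻¹ * ((u : G) * b * (u : G)⁻¹)) * (u : G)⁻¹ = _
        have hui : (u : G)⁻¹ = u := inv_of_order_two hu2
        have huu : (u : G) * u = 1 := by rw [← pow_two, ← hu2, pow_orderOf_eq_one]
        rw [hui, show (u : G) * ((b : G)⁻¹ * ((u : G) * b * u)) * u =
          (u : G) * (b : G)⁻¹ * u * b * ((u : G) * u) by group, huu, mul_one]
        simp only [c, mul_inv_rev, inv_inv, hui, mul_assoc]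
      obtain ⟨k, hk⟩ := T.2 ⟨c, hcT⟩
      have hdvd : orderOf c ∣ w ^ k := orderOf_dvd_of_pow_eq_one (congrArg Subtype.val hk)
      obtain ⟨i', -, hi'⟩ := (Nat.dvd_prime_pow hwp).1 hdvd
      have hi0 : i' ≠ 0 := fun e => hc1 (orderOf_eq_one_iff.1 (by rw [hi', e, pow_zero]))
      have hwo : w ∣ orderOf c := hi' ▸ dvd_pow_self w hi0
      refine hnoinv (y := c ^ (orderOf c / w)) hu2
        (orderOf_pow_orderOf_div (orderOf_pos c).ne' hwo) ?_
      rw [← conj_pow, hcinv, inv_pow]
    obtain ⟨T', K, hKn, hK⟩ :=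
      Transfer.hasNormalPComplement_of_normalizer_le_centralizer T hNC
    refine ⟨K, hKn, ⟨(Nat.card G).factorization w,
      hwp.factorization_pos_of_dvd Nat.card_pos.ne' hwdvd, ?_⟩, ?_⟩
    · rw [hK.symm.index_eq_card, T'.card_eq_multiplicity]
    · have h1 : Nat.card K = (T' : Subgroup G).index := (hK.index_eq_card).symm
      rw [h1]
      exact T'.not_dvd_index
  · exfalso
    -- every `w`-element has order dividing `w`
    have hexp : ∀ b : G, ∀ k : ℕ, orderOf b = w ^ k → b ^ w = 1 := by
      intro b k hk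
      obtain ⟨S, hS⟩ := (IsPGroup.of_card (n := k) (by rw [Nat.card_zpowers, hk]) :
        IsPGroup w (zpowers b)).exists_le_sylow
      rcases S4023.result (p := w) (fun H L _ _ h => hC H L h) S with h | h | ⟨h, -⟩ | ⟨-, -, -, h⟩
      · refine absurd ?_ hcyc
        exact isCyclic_of_surjective (S.equiv T).toMonoidHom (S.equiv T).surjective
      · exact h.2 b (hS (mem_zpowers b))
      · exact absurd h hw2
      · have := Monoid.pow_exponent_eq_one (⟨b, hS (mem_zpowers b)⟩ : (S : Subgroup G))
        rw [h] at this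
        exact congrArg Subtype.val this
    obtain ⟨x, hxt, hxP, hx⟩ : ∃ x ∈ Ct, x ∉ CP ∧ orderOf x = w := by
      obtain ⟨c, hc, hcP⟩ : ∃ c ∈ Ct, c ∉ CP := by
        by_contra h
        push Not at h
        rw [relIndex_eq_one.2 h] at hrel'
        exact hwp.one_lt.ne hrel'
      set l := ordCompl[w] (orderOf c)
      have hcl : c ^ l ∉ CP := by
        intro h
        haveI : (CP.subgroupOf Ct).Normal := by
          refine ⟨fun a ha b => mem_subgroupOf.2 (mem_centralizer_iff.2 fun v hv => ?_)⟩
          have hbN := centralizer_le_normalizer hC P hsq ht ht1 b.2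
          have hv' : (b : G)⁻¹ * v * (b : G) ∈ (P : Subgroup G) := by
            simpa using (mem_normalizer_iff.1 (inv_mem hbN) v).1 hv
          have h1 := mem_centralizer_iff.1 (mem_subgroupOf.1 ha) _ hv'
          push_cast
          calc v * ((b : G) * (a : G) * (b : G)⁻¹)
              = (b : G) * ((b : G)⁻¹ * v * (b : G) * (a : G)) * (b : G)⁻¹ := by group
            _ = (b : G) * ((a : G) * ((b : G)⁻¹ * v * (b : G))) * (b : G)⁻¹ := by rw [h1]
            _ = (b : G) * (a : G) * (b : G)⁻¹ * v := by group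
        have hw' : c ^ w ∈ CP := by
          have := pow_index_mem (CP.subgroupOf Ct) (⟨c, hc⟩ : Ct)
          rw [show (CP.subgroupOf Ct).index = w from hrel'] at this
          exact mem_subgroupOf.1 this
        have hco : Nat.gcd l w = 1 :=
          Nat.coprime_comm.1 (Nat.coprime_ordCompl hwp (orderOf_pos c).ne')
        have := Nat.gcd_eq_gcd_ab l w
        apply hcP
        rw [← zpow_one c, show (1 : ℤ) = ((Nat.gcd l w : ℕ) : ℤ) by rw [hco]; rfl, this, zpow_add,
          zpow_mul, zpow_mul, zpow_natCast, zpow_natCast]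
        exact mul_mem (zpow_mem h _) (zpow_mem hw' _)
      have hl0 : l ≠ 0 := (Nat.ordCompl_pos w (orderOf_pos c).ne').ne'
      have hord : orderOf (c ^ l) = w ^ (orderOf c).factorization w := by
        rw [orderOf_pow' _ hl0, Nat.gcd_eq_right (Nat.ordCompl_dvd _ w)]
        exact Nat.div_eq_of_eq_mul_left (Nat.pos_of_ne_zero hl0)
          (Nat.ordProj_mul_ordCompl_eq_self _ w).symm
      exact ⟨c ^ l, pow_mem hc _, hcl, orderOf_eq_prime (hexp _ _ hord)
        fun e => hcl (e ▸ one_mem CP)⟩
    have h4x := not_four_dvd P hC hsq hnw hn ht ht1 hx hxt hxP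
    have hCP : ¬ w ∣ Nat.card CP := by
      intro h
      obtain ⟨y, hy⟩ := exists_prime_orderOf_dvd_card' w h
      apply h4x
      rw [← card_centralizer_eq_of_eqConj hC hwp hx (y := (y : G)) (by rwa [Subgroup.orderOf_coe])]
      refine dvd_trans (show 4 ∣ Nat.card (P : Subgroup G) by
        rw [hn]; rcases hnw with ⟨rfl, -⟩ | ⟨rfl, -⟩ <;> norm_num) (card_dvd_of_le fun v hv => ?_)
      exact mem_centralizer_singleton_iff.2 (mem_centralizer_iff.1 y.2 v hv)
    have hCt : (Nat.card Ct).factorization w = 1 := by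
      have h := (CP.subgroupOf Ct).card_mul_index
      rw [show (CP.subgroupOf Ct).index = w from hrel',
        Nat.card_congr (subgroupOfEquivOfLe (centralizer_le_centralizer P ht)).toEquiv] at h
      rw [← h, Nat.factorization_mul Nat.card_pos.ne' hwp.ne_zero, Finsupp.add_apply,
        Nat.factorization_eq_zero_of_not_dvd hCP, hwp.factorization_self]
    -- a Sylow subgroup centralizing `x`
    obtain ⟨z, hz, hzT⟩ : ∃ z : G, orderOf z = w ∧ (T : Subgroup G) ≤ centralizer ({z} : Set G) := by
      haveI : Nontrivial T := by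
        rw [← Finite.one_lt_card_iff_nontrivial, T.card_eq_multiplicity]
        exact Nat.one_lt_pow (hwp.factorization_pos_of_dvd Nat.card_pos.ne' hwdvd).ne' hwp.one_lt
      haveI := T.2.center_nontrivial
      obtain ⟨k, hk, hc⟩ := (IsPGroup.to_subgroup T.2 (Subgroup.center T)).nontrivial_iff_card.1
        inferInstance
      obtain ⟨z, hz⟩ := exists_prime_orderOf_dvd_card' w (hc ▸ dvd_pow_self w hk.ne')
      refine ⟨((z : T) : G), by rwa [Subgroup.orderOf_coe, Subgroup.orderOf_coe], fun b hb => ?_⟩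
      exact mem_centralizer_singleton_iff.2
        (congrArg Subtype.val (mem_center_iff.1 z.2 ⟨b, hb⟩))
    set C := centralizer ({x} : Set G)
    have hTC : w ^ (Nat.card G).factorization w ∣ Nat.card C := by
      rw [← T.card_eq_multiplicity, card_centralizer_eq_of_eqConj hC hwp hz hx]
      exact card_dvd_of_le hzT
    have htC : t ∈ C := mem_centralizer_singleton_iff.2 (mem_centralizer_singleton_iff.1 hxt).symm
    -- the normal 2-complement of `C`
    obtain ⟨R⟩ : Nonempty (Sylow 2 C) := inferInstance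
    have hR2 : Nat.card (R : Subgroup C) = 2 := by
      rw [R.card_eq_multiplicity]
      have h1 : (Nat.card C).factorization 2 = 1 := by
        refine le_antisymm ?_ (Nat.prime_two.factorization_pos_of_dvd Nat.card_pos.ne'
          (hto ▸ Subgroup.orderOf_mk t htC ▸ orderOf_dvd_natCard _))
        by_contra h
        exact h4x ((Nat.prime_two.pow_dvd_iff_le_factorization Nat.card_pos.ne').2
          (show 2 ≤ _ by omega))
      rw [h1, pow_one]
    obtain ⟨R', X, hXn, hX⟩ := Transfer.hasNormalPComplement_of_normalizer_le_centralizer R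
      fun b hb => mem_centralizer_iff.2 fun r hr => by
        haveI : Fintype (R : Subgroup C) := Fintype.ofFinite _
        by_cases hr1 : r = 1
        · rw [hr1]; simp
        have h1 := (mem_normalizer_iff.1 hb r).1 hr
        obtain ⟨r₀, r₁, hne, huniv⟩ := Nat.card_eq_two_iff.1 hR2
        have hmem : ∀ s : (R : Subgroup C), s = r₀ ∨ s = r₁ := fun s => by
          have := huniv.ge (Set.mem_univ s)
          simpa using this
        by_cases hne' : b * r * b⁻¹ = r
        · exact (mul_inv_eq_iff_eq_mul.1 hne').symm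
        exfalso
        have e1 := hmem ⟨r, hr⟩
        have e2 := hmem ⟨_, h1⟩
        have e3 := hmem 1
        rcases e1 with e1 | e1 <;> rcases e2 with e2 | e2 <;> rcases e3 with e3 | e3 <;>
          first
          | exact hne' (congrArg Subtype.val (e2.trans e1.symm))
          | exact hr1 (congrArg Subtype.val (e1.trans e3.symm))
          | exact hr1 (conj_eq_one_iff.1 (congrArg Subtype.val (e2.trans e3.symm)))
    haveI := hXn
    have hXidx : X.index = 2 := by
      rw [hX.symm.index_eq_card, R'.card_eq_multiplicity, ← R.card_eq_multiplicity, hR2]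
    obtain ⟨S⟩ : Nonempty (Sylow w X) := inferInstance
    have hSup := S.normalizer_sup_eq_top
    set NS := normalizer (((S : Subgroup X).map X.subtype : Subgroup C) : Set C)
    have hNS : 2 ∣ Nat.card NS := by
      have h1 : X.relIndex NS = 2 := by
        rw [← relIndex_sup_right NS X, hSup, relIndex_top_right, hXidx]
      exact h1 ▸ relIndex_dvd_card X NS
    obtain ⟨u, hu⟩ := exists_prime_orderOf_dvd_card' 2 hNS
    have hu2 : orderOf (((u : NS) : C) : G) = 2 := by
      rw [Subgroup.orderOf_coe, Subgroup.orderOf_coe, hu]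
    set uG := (((u : NS) : C) : G)
    have hcentral : ∀ b ∈ ((S : Subgroup X).map X.subtype : Subgroup C),
        uG * (b : G) = (b : G) * uG := by
      intro b hb
      by_contra hne
      set c := (b : G)⁻¹ * (uG * b * uG⁻¹)
      have hcS : b⁻¹ * ((u : C) * b * (u : C)⁻¹) ∈ ((S : Subgroup X).map X.subtype : Subgroup C) :=
        mul_mem (inv_mem hb) ((mem_normalizer_iff.1 u.2 b).1 hb)
      have hc1 : c ≠ 1 := fun e => hne (mul_inv_eq_iff_eq_mul.1 (inv_mul_eq_one.1 e).symm)
      have hui : uG⁻¹ = uG := inv_of_order_two hu2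
      have huu : uG * uG = 1 := by rw [← pow_two, ← hu2, pow_orderOf_eq_one]
      have hcinv : uG * c * uG⁻¹ = c⁻¹ := by
        show uG * ((b : G)⁻¹ * (uG * b * uG⁻¹)) * uG⁻¹ = ((b : G)⁻¹ * (uG * b * uG⁻¹))⁻¹
        rw [hui, show uG * ((b : G)⁻¹ * (uG * b * uG)) * uG =
          uG * (b : G)⁻¹ * uG * b * (uG * uG) by group, huu, mul_one]
        simp only [c, mul_inv_rev, inv_inv, hui, mul_assoc]
      obtain ⟨k, hk⟩ := (S.2.map X.subtype) ⟨_, hcS⟩
      have hk' : c ^ w ^ k = 1 :=
        congrArg (fun z : ((S : Subgroup X).map X.subtype : Subgroup C) => ((z : C) : G)) hk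
      obtain ⟨i', -, hi'⟩ := (Nat.dvd_prime_pow hwp).1 (orderOf_dvd_of_pow_eq_one hk')
      exact hnoinv hu2 (orderOf_eq_prime (hexp c i' hi') hc1) hcinv
    -- count
    have hXfac : (Nat.card X).factorization w = (Nat.card C).factorization w := by
      have h := X.card_mul_index
      rw [hXidx] at h
      rw [← h, Nat.factorization_mul Nat.card_pos.ne' two_ne_zero, Finsupp.add_apply,
        Nat.factorization_eq_zero_of_not_dvd (n := 2) (p := w) fun h2 =>
          hw2 ((Nat.prime_two.eq_one_or_self_of_dvd w h2).resolve_left hwp.ne_one), add_zero]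
    set S' : Subgroup G := ((S : Subgroup X).map X.subtype).map C.subtype
    have hS'card : Nat.card S' = w ^ (Nat.card C).factorization w := by
      rw [card_map_of_injective C.subtype_injective, card_map_of_injective X.subtype_injective,
        S.card_eq_multiplicity, hXfac]
    have hle : S' ≤ centralizer ({uG} : Set G) := by
      rintro _ ⟨b, hb, rfl⟩
      exact mem_centralizer_singleton_iff.2 (hcentral b hb).symm
    obtain ⟨g, hg⟩ := isConj_involutions hC hto hu2
    have h2 := card_dvd_of_le hle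
    rw [hS'card, ← hg, card_centralizer_conj] at h2
    have h3 := (hwp.pow_dvd_iff_le_factorization Nat.card_pos.ne').1 h2
    rw [hCt] at h3
    have h5 := (hwp.pow_dvd_iff_le_factorization Nat.card_pos.ne').1 hTC
    have h6 := hwp.factorization_pos_of_dvd Nat.card_pos.ne' hwdvd
    apply hcyc
    exact isCyclic_of_prime_card (p := w) (by
      rw [T.card_eq_multiplicity, show (Nat.card G).factorization w = 1 by omega, pow_one])

end Cfsg.Agent.EqualOrderConj
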