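import Cfsg.Agent.Lib.InvolRankOne.Structure
import Cfsg.Agent.Lib.InvolRankOne.Core
import Cfsg.Agent.Lib.PSL2.Basic
import Cfsg.Agent.Lib.CharInt.Kazarin
import Cfsg.Agent.Lib.EqualOrderConj.Basic

/-!
# An elementary abelian Sylow 2-subgroup of order 8 or 32 with centralizers inside its centralizer

If the involutions are conjugate, no involution inverts an odd element commuting with an involution
and there is no normal subgroup of odd order, the group is `PSL(2, |P|)` or `P` is normal.
-/

set_option autoImplicit false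
set_option linter.style.haveILetI false
set_option linter.unusedSectionVars false

namespace Cfsg.Agent.InvolRankOne

open Cfsg Subgroup
open scoped ComplexConjugate Classical

universe u

variable {G : Type u} [Group G] [Fintype G]

theorem cube_bound_thirtytwo {d : ℤ} {f : ℕ} (hf : 0 < f) (h : (32 : ℤ) ≤ f + 31 * d)
    (hd : d * d ≤ 31) :
    -((d : ℝ) ^ 2 / 63 + (if d * d = 4 then (64 : ℝ) / 2961 else 0) +
      (if d * d = 9 then (64 : ℝ) / 875 else 0) +
      (if d * d = 16 then (128 : ℝ) / 819 else 0) +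
      (if d * d = 25 then (3200 : ℝ) / 11781 else 0)) ≤ (d : ℝ) ^ 3 / f := by
  have hf' : (0 : ℝ) < f := Nat.cast_pos.2 hf
  have hfr : (32 : ℝ) ≤ f + 31 * d := by exact_mod_cast h
  have h1 : -5 ≤ d ∧ d ≤ 5 := by constructor <;> nlinarith
  rw [le_div_iff₀ hf']
  obtain ⟨ha, hb⟩ := h1
  interval_cases d <;> push_cast at hfr <;> norm_num <;> linarith

namespace Setup

variable {P : Sylow 2 G} (S : Setup P)
include S

/-- With trivial `W` the group is `PSL(2, |P|)`. -/
theorem psl_of_W_eq_bot (hW : InvolRankOne.W P = ⊥) (hnn : ¬ (P : Subgroup G).Normal) :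
    ∃ (F : Type) (_ : Field F) (_ : Fintype F), Fintype.card F = Nat.card (P : Subgroup G) ∧
      Nonempty (G ≃* Matrix.ProjectiveSpecialLinearGroup (Fin 2) F) := by
  haveI : Fact (Nat.Prime 2) := ⟨Nat.prime_two⟩
  have hC : ∀ {a : G}, a ∈ (P : Subgroup G) → a ≠ 1 →
      centralizer ({a} : Set G) = (P : Subgroup G) := fun ha ha1 => by
    rw [S.C_eq ha ha1, eq_bot_iff.2 ((S.O_le_W ha ha1).trans hW.le), bot_sup_eq]
  have hncyc : ¬ IsCyclic (P : Subgroup G) := fun h => by
    obtain ⟨g, hg⟩ := h.exists_generator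
    have h1 : Nat.card (P : Subgroup G) ≤ 2 := by
      rw [← Nat.card_congr (Equiv.subtypeUnivEquiv hg), Nat.card_zpowers]
      exact Nat.le_of_dvd two_pos (orderOf_dvd_of_pow_eq_one (Subtype.ext (by
        rw [pow_two]; exact S.sq g g.2)))
    have := S.big
    omega
  refine S1230.result P hncyc hnn fun t ht => ?_
  obtain ⟨Q, hQ⟩ := (IsPGroup.of_card (n := 1) (by
    rw [Nat.card_zpowers, ht, pow_one]) : IsPGroup 2 (zpowers t)).exists_le_sylow
  obtain ⟨g, hg⟩ := MulAction.exists_smul_eq G Q P
  have ha : g * t * g⁻¹ ∈ (P : Subgroup G) := by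
    rw [← hg]; exact ⟨t, hQ (mem_zpowers t), rfl⟩
  have ha1 : g * t * g⁻¹ ≠ 1 := fun h => by
    rw [conj_eq_one_iff.1 h, orderOf_one] at ht
    exact absurd ht (by norm_num)
  have hmem : ∀ c ∈ centralizer ({t} : Set G), g * c * g⁻¹ ∈ (P : Subgroup G) := fun c hc => by
    rw [← hC ha ha1, mem_centralizer_singleton_iff]
    have h := mem_centralizer_singleton_iff.1 hc
    calc g * c * g⁻¹ * (g * t * g⁻¹) = g * (c * t) * g⁻¹ := by group
      _ = g * (t * c) * g⁻¹ := by rw [h]
      _ = g * t * g⁻¹ * (g * c * g⁻¹) := by group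
  refine ⟨⟨⟨fun c c' => Subtype.ext ?_⟩⟩, fun c hc => ?_⟩
  · have h := S.comm (hmem c c.2) (hmem c' c'.2)
    rw [show g * c.1 * g⁻¹ * (g * c'.1 * g⁻¹) = g * (c.1 * c'.1) * g⁻¹ by group,
      show g * c'.1 * g⁻¹ * (g * c.1 * g⁻¹) = g * (c'.1 * c.1) * g⁻¹ by group] at h
    exact mul_left_cancel (mul_right_cancel h)
  · have h := S.sq _ (hmem c hc)
    rw [show g * c * g⁻¹ * (g * c * g⁻¹) = g * (c * c) * g⁻¹ by group, conj_eq_one_iff] at h
    rw [pow_two, h]

/-- An element of `P` fixing a coset of `M` other than `M` is trivial. -/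
theorem eq_one_of_fix (hMt : InvolRankOne.M P ≠ ⊤) {a : G} (ha : a ∈ (P : Subgroup G))
    {c : G ⧸ InvolRankOne.M P} (hc : a • c = c) (hc1 : c ≠ ((1 : G) : G ⧸ InvolRankOne.M P)) :
    a = 1 := by
  by_contra ha1
  haveI : Fact (Nat.Prime 2) := ⟨Nat.prime_two⟩
  have hSE := S.isStronglyEmbedded hMt
  have h1 := (S0224.result _ hMt hSE.2.1).1 hSE a (S.P_le_M ha) (S.orderOf_eq_two ha ha1)
  haveI := (Nat.card_eq_one_iff_unique.1 h1).1
  refine hc1 (congrArg Subtype.val (Subsingleton.elim
    (⟨c, hc⟩ : {d : G ⧸ InvolRankOne.M P // a • d = d}) ⟨((1 : G) : G ⧸ InvolRankOne.M P), ?_⟩))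
  show ((a * 1 : G) : G ⧸ InvolRankOne.M P) = ((1 : G) : G ⧸ InvolRankOne.M P)
  refine QuotientGroup.eq.2 ?_
  simpa using S.P_le_M ha

/-- With few orbits of `P` on the cosets of `M`, `W` embeds in a small symmetric group. -/
theorem card_W_dvd_factorial (hWC : InvolRankOne.W P ≤ centralizer ((P : Subgroup G) : Set G))
    (hO : ∀ K : Subgroup G, K.Normal → Odd (Nat.card K) → K = ⊥) (hMt : InvolRankOne.M P ≠ ⊤)
    {m : ℕ} (hidx : (InvolRankOne.M P).index = Nat.card (P : Subgroup G) * m + 1) :
    Nat.card (InvolRankOne.W P) ∣ m.factorial := by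
  set H := InvolRankOne.M P with hH
  set W := InvolRankOne.W P with hW
  set Ω := MulAction.orbitRel.Quotient (P : Subgroup G) (G ⧸ H)
  -- the number of orbits
  have hΩ : Nat.card Ω = m + 1 := by
    have h := MulAction.sum_card_fixedBy_eq_card_orbits_mul_card_group (P : Subgroup G) (G ⧸ H)
    have h1 : ∀ x : (P : Subgroup G), Fintype.card (MulAction.fixedBy (G ⧸ H) x) =
        if x = 1 then H.index else 1 := by
      intro x
      rw [← Nat.card_eq_fintype_card]
      split_ifs with hx
      · subst hx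
        rw [index_eq_card]
        exact Nat.card_congr (Equiv.subtypeUnivEquiv fun v => by simp)
      · have hSE := S.isStronglyEmbedded hMt
        exact (S0224.result H hMt hSE.2.1).1 hSE x (S.P_le_M x.2)
          (S.orderOf_eq_two x.2 fun e => hx (Subtype.ext e))
    simp only [h1] at h
    rw [← Finset.add_sum_erase _ _ (Finset.mem_univ (1 : (P : Subgroup G))), if_pos rfl,
      Finset.sum_congr rfl fun x hx => if_neg (Finset.ne_of_mem_erase hx), Finset.sum_const,
      Finset.card_erase_of_mem (Finset.mem_univ _), Finset.card_univ, smul_eq_mul, mul_one,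
      ← Nat.card_eq_fintype_card (α := (P : Subgroup G)), hidx,
      ← Nat.card_eq_fintype_card] at h
    have hq : 0 < Nat.card (P : Subgroup G) := Nat.card_pos
    refine (Nat.eq_of_mul_eq_mul_right hq ?_).symm
    rw [← h]
    obtain ⟨k, hk⟩ : ∃ k, Nat.card (P : Subgroup G) = k + 1 := ⟨_, (Nat.succ_pred_eq_of_pos hq).symm⟩
    rw [hk, Nat.add_sub_cancel]
    ring
  -- the action of `W` on the orbits
  have hcomm : ∀ (w : W) (a : (P : Subgroup G)), (w : G) * a = a * w := fun w a =>
    (mem_centralizer_iff.1 (hWC w.2) a a.2).symm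
  have hrespect : ∀ (w : W) (x y : G ⧸ H), (MulAction.orbitRel (P : Subgroup G) (G ⧸ H)).r x y →
      (MulAction.orbitRel (P : Subgroup G) (G ⧸ H)).r ((w : G) • x) ((w : G) • y) := by
    rintro w x y ⟨a, rfl⟩
    refine ⟨a, ?_⟩
    show (a : G) • ((w : G) • y) = (w : G) • ((a : G) • y)
    rw [← mul_smul, ← mul_smul, hcomm]
  let act : W → Ω → Ω := fun w => Quotient.map (fun x => (w : G) • x) (hrespect w)
  have act_one : ∀ o, act 1 o = o := by
    intro o
    induction o using Quotient.inductionOn' with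
    | h x => exact congrArg Quotient.mk'' (one_smul G x)
  have act_mul : ∀ w w' o, act (w * w') o = act w (act w' o) := by
    intro w w' o
    induction o using Quotient.inductionOn' with
    | h x => exact congrArg Quotient.mk'' (mul_smul (w : G) (w' : G) x)
  letI : MulAction W Ω := { smul := act, one_smul := act_one, mul_smul := act_mul }
  set o₀ : Ω := Quotient.mk'' ((1 : G) : G ⧸ H)
  have hbase : ∀ w : W, (w : G) • ((1 : G) : G ⧸ H) = ((1 : G) : G ⧸ H) := fun w => by
    show (((w : G) * 1 : G) : G ⧸ H) = ((1 : G) : G ⧸ H)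
    refine QuotientGroup.eq.2 ?_
    simp only [mul_one, inv_mem_iff]
    exact mem_sup_left w.2
  have hfix₀ : ∀ w : W, w • o₀ = o₀ := fun w => congrArg Quotient.mk'' (hbase w)
  let f : W →* Equiv.Perm {o : Ω // o ≠ o₀} :=
    { toFun := fun w => (MulAction.toPerm w).subtypePerm fun o => by
        show w • o ≠ o₀ ↔ o ≠ o₀
        constructor
        · intro h e; exact h (e ▸ hfix₀ w)
        · intro h e
          refine h ?_
          rw [← inv_smul_smul w o, e]
          exact hfix₀ _
      map_one' := Equiv.ext fun o => Subtype.ext (one_smul W (o : Ω))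
      map_mul' := fun w w' => Equiv.ext fun o => Subtype.ext (mul_smul w w' (o : Ω)) }
  have hfix : ∀ w : W, f w = 1 → ∀ x : G ⧸ H, (w : G) • x = x := by
    intro w hw x
    by_cases hx : x = ((1 : G) : G ⧸ H)
    · rw [hx]; exact hbase w
    have h1 : w • (Quotient.mk'' x : Ω) = Quotient.mk'' x := by
      by_cases ho : (Quotient.mk'' x : Ω) = o₀
      · rw [ho]; exact hfix₀ w
      · exact congrArg Subtype.val (Equiv.ext_iff.1 hw ⟨_, ho⟩)
    obtain ⟨a, ha⟩ := Quotient.exact' (show (Quotient.mk'' ((w : G) • x) : Ω) = Quotient.mk'' x from h1)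
    have ha' : (a : G) • x = (w : G) • x := ha
    suffices (a : G) = 1 by rw [← ha', this, one_smul]
    refine S.eq_one_of_fix hMt a.2 ?_ hx
    -- `a⁻¹ w` fixes `x`, and so does its power `a`
    have hz : ((a : G)⁻¹ * w) • x = x := by rw [mul_smul, ← ha', inv_smul_smul]
    have hpow : ∀ k : ℕ, ((a : G)⁻¹ * w) ^ k • x = x := fun k => by
      induction k with
      | zero => rw [pow_zero, one_smul]
      | succ k ih => rw [pow_succ, mul_smul, hz, ih]
    have hodd : Odd (orderOf (w : G)) := S.W_odd.of_dvd_nat (W.orderOf_dvd_natCard w.2)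
    obtain ⟨k, hk⟩ := hodd
    have := hpow (orderOf (w : G))
    rw [S.inv_eq a.2, (show Commute (a : G) w from (hcomm w a).symm).mul_pow, pow_orderOf_eq_one,
      mul_one, hk, pow_succ, pow_mul, pow_two, S.sq _ a.2, one_pow, one_mul] at this
    exact this
  have hinj : Function.Injective f := by
    rw [injective_iff_map_eq_one]
    intro w hw
    -- the core of `M` meets `W` in a normal subgroup of odd order
    set C := H.normalCore
    have hwC : (w : G) ∈ C := by
      intro b
      have h := hfix w hw ((b⁻¹ : G) : G ⧸ H)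
      have h' := QuotientGroup.eq.1 (show (((w : G) * b⁻¹ : G) : G ⧸ H) = ((b⁻¹ : G) : G ⧸ H) from h)
      have := inv_mem h'
      simpa [mul_assoc] using this
    haveI : Fact (Nat.Prime 2) := ⟨Nat.prime_two⟩
    haveI : (W.subgroupOf C).Normal := normal_subgroupOf_of_le_normalizer
      ((normalCore_le H).trans S.W_le_normalizer)
    have hle : W.subgroupOf C ≤ pPrimeCore 2 C := le_sSup ⟨inferInstance, by
      rw [Nat.coprime_two_right]
      refine S.W_odd.of_dvd_nat ?_
      rw [← card_map_of_injective (K := W.subgroupOf C) C.subtype_injective]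
      exact card_dvd_of_le (map_le_iff_le_comap.2 le_rfl)⟩
    have hn : ((pPrimeCore 2 C).map C.subtype).Normal := inferInstance
    have h0 : (pPrimeCore 2 C).map C.subtype = ⊥ := hO _ hn (by
      rw [card_map_of_injective C.subtype_injective]
      exact Nat.coprime_two_right.1 PCore.coprime_card_pPrimeCore)
    exact Subtype.ext (mem_bot.1 (h0 ▸ ⟨⟨w, hwC⟩, hle w.2, rfl⟩))
  refine (card_dvd_of_injective f hinj).trans ?_
  rw [Nat.card_perm, Nat.card_eq_fintype_card (α := {o : Ω // o ≠ o₀}), Fintype.card_subtype_compl,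
    Fintype.card_subtype_eq, ← Nat.card_eq_fintype_card, hΩ, Nat.add_sub_cancel]

/-- The facts used when `C(a) ≤ C(P)` for all involutions `a` of `P`. -/
theorem facts_of_free (hfree : ∀ {a : G}, a ∈ (P : Subgroup G) → a ≠ 1 →
      centralizer ({a} : Set G) ≤ centralizer ((P : Subgroup G) : Set G)) (hT : Transitive P) :
    InvolRankOne.W P ≤ centralizer ((P : Subgroup G) : Set G) ∧
      InvolRankOne.M P = normalizer ((P : Subgroup G) : Set G) ∧
      Nat.card (InvolRankOne.M P) = (Nat.card (P : Subgroup G) - 1) *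
        (Nat.card (P : Subgroup G) * Nat.card (InvolRankOne.W P)) := by
  have hWC : InvolRankOne.W P ≤ centralizer ((P : Subgroup G) : Set G) :=
    iSup_le fun a => (S.O_le a.2.1).trans (hfree a.2.1 a.2.2)
  have hMN : InvolRankOne.M P = normalizer ((P : Subgroup G) : Set G) :=
    sup_eq_right.2 (hWC.trans (Subgroup.centralizer_le_normalizer _))
  refine ⟨hWC, hMN, ?_⟩
  obtain ⟨a, ha, ha1⟩ : ∃ a ∈ (P : Subgroup G), a ≠ 1 := by
    by_contra h
    push Not at h
    have := S.big
    rw [(eq_bot_iff_forall _).2 h, card_bot] at this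
    omega
  have hCP : centralizer ((P : Subgroup G) : Set G) = centralizer ({a} : Set G) :=
    le_antisymm (centralizer_le (Set.singleton_subset_iff.2 ha)) (hfree ha ha1)
  have hOW : O a = InvolRankOne.W P := by
    rw [← S.W_inf ha ha1, inf_eq_left]
    exact hCP ▸ hWC
  have hle : (centralizer ((P : Subgroup G) : Set G)).relIndex
      (normalizer ((P : Subgroup G) : Set G)) ≤ Nat.card (P : Subgroup G) - 1 := by
    rw [← S.card_orbit_normalizer ha ha1]
    refine le_trans (Finset.card_le_card
      (t := (Finset.univ.filter fun t : G => t ∈ (P : Subgroup G)).erase 1) fun t ht => ?_) (le_of_eq ?_)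
    · obtain ⟨n, -, rfl⟩ := Finset.mem_image.1 ht
      exact Finset.mem_erase.2 ⟨fun h => ha1 (conj_eq_one_iff.1 h),
        Finset.mem_filter.2 ⟨Finset.mem_univ _, (mem_normalizer_iff.1 n.2 a).1 ha⟩⟩
    · rw [Finset.card_erase_of_mem (by simp), ← Fintype.card_subtype, ← Nat.card_eq_fintype_card]
  rw [hMN, ← le_antisymm hle (S.le_of_transitive hT), ← hOW, ← S.card_C ha ha1, ← hCP, relIndex,
    mul_comm, ← Nat.card_congr (subgroupOfEquivOfLe (show centralizer ((P : Subgroup G) : Set G) ≤
      normalizer ((P : Subgroup G) : Set G) from Subgroup.centralizer_le_normalizer _)).toEquiv,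
    card_mul_index]

variable {M : Ideal AlgInt} [Fact (Nat.Prime 2)] [M.IsMaximal]

theorem W_eq_bot_thirtytwo (hq : Nat.card (P : Subgroup G) = 32)
    (hfree : ∀ {a : G}, a ∈ (P : Subgroup G) → a ≠ 1 →
      centralizer ({a} : Set G) ≤ centralizer ((P : Subgroup G) : Set G))
    (hreal : ∀ {t h u : G}, orderOf t = 2 → Odd (orderOf h) → h ≠ 1 → t * h = h * t →
      orderOf u = 2 → u * h * u⁻¹ ≠ h⁻¹)
    (hO : ∀ K : Subgroup G, K.Normal → Odd (Nat.card K) → K = ⊥)
    (hT : Transitive P) (hM : IsPModular 2 M) (hMt : InvolRankOne.M P ≠ ⊤) :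
    InvolRankOne.W P = ⊥ := by
  obtain ⟨hWC, hMN, hMcard⟩ := S.facts_of_free hfree hT
  rw [hq] at hMcard
  by_cases hidx : (InvolRankOne.M P).index ≤ 2 * Nat.card (P : Subgroup G) + 1
  · exact S.W_eq_bot_of_index_le hO hMt hidx
  by_contra hW
  set q := Nat.card (P : Subgroup G) with hqdef
  by_cases hbig : (InvolRankOne.M P).index ≤ 4 * q + 1
  · -- few orbits
    have hmod := S.index_modEq hMt
    rw [← hqdef, Nat.ModEq] at hmod
    obtain ⟨m, hm, hn⟩ : ∃ m, (m = 3 ∨ m = 4) ∧ (InvolRankOne.M P).index = q * m + 1 := by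
      rw [hq] at hmod hbig hidx ⊢
      by_cases h : (InvolRankOne.M P).index = 97
      · exact ⟨3, Or.inl rfl, by omega⟩
      · exact ⟨4, Or.inr rfl, by omega⟩
    obtain ⟨a, b, ha, hb, ha1, hb1, hab⟩ : ∃ a b, a ∈ (P : Subgroup G) ∧ b ∈ (P : Subgroup G) ∧
        a ≠ 1 ∧ b ≠ 1 ∧ a ≠ b := by
      obtain ⟨a, ha, ha1⟩ := S.exists_mem_ne_one
      by_contra h
      push Not at h
      have hsub : ((P : Subgroup G) : Set G) ⊆ ({1, a} : Set G) := fun x hx => by
        by_cases hx1 : x = 1
        · exact Or.inl hx1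
        · exact Or.inr (h a x ha hx ha1 hx1).symm
      have h2 := Nat.card_le_card_of_injective (fun x : (P : Subgroup G) =>
        (⟨(x : G), hsub x.2⟩ : ({1, a} : Set G))) (fun x y e => Subtype.ext (congrArg Subtype.val e :))
      rw [Nat.card_eq_fintype_card (α := ({1, a} : Set G))] at h2
      simp [Ne.symm ha1] at h2
      rw [← Nat.card_eq_fintype_card, ← hqdef, hq] at h2
      omega
    set W := InvolRankOne.W P with hWdef
    have hW3 : Nat.card W = 3 := by
      have h := S.card_W_dvd_factorial hWC hO hMt hn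
      have hodd := S.W_odd
      have hne : Nat.card W ≠ 1 := fun e => hW (card_eq_one.1 e)
      have h24 : Nat.card W ∣ 24 := by
        rcases hm with rfl | rfl
        · exact h.trans (by decide)
        · exact h
      have := Nat.le_of_dvd (by norm_num) h24
      obtain ⟨k, hk⟩ := hodd
      interval_cases hc : Nat.card W <;> omega
    haveI : Fact (Nat.Prime 3) := ⟨Nat.prime_three⟩
    -- the normalizer centralizes `W`
    have hNC : normalizer (W : Set G) ≤ centralizer (W : Set G) := by
      intro g hg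
      refine mem_centralizer_iff.2 fun w hw => ?_
      by_contra hne
      have hw1 : w ≠ 1 := fun e => hne (by rw [e, one_mul, mul_one])
      have hwo : orderOf w = 3 := by
        have h3 := hW3 ▸ W.orderOf_dvd_natCard hw
        exact (Nat.prime_three.eq_one_or_self_of_dvd _ h3).resolve_left
          fun e => hw1 (orderOf_eq_one_iff.1 e)
      have hzW : zpowers w = W := eq_of_le_of_card_ge (zpowers_le.2 hw) (by
        rw [Nat.card_zpowers, hwo, hW3])
      obtain ⟨i, hi⟩ := mem_zpowers_iff.1 (hzW.symm ▸ (mem_normalizer_iff.1 hg w).1 hw :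
        g * w * g⁻¹ ∈ zpowers w)
      rw [← zpow_mod_orderOf, hwo] at hi
      have hi3 : i % ((3 : ℕ) : ℤ) = 0 ∨ i % ((3 : ℕ) : ℤ) = 1 ∨ i % ((3 : ℕ) : ℤ) = 2 := by omega
      have hinv : g * w * g⁻¹ = w⁻¹ := by
        rcases hi3 with e | e | e <;> rw [e] at hi
        · exact absurd (conj_eq_one_iff.1 (by rw [← hi, zpow_zero])) hw1
        · exact absurd (mul_inv_eq_iff_eq_mul.1 (by rw [← hi, zpow_one])).symm hne
        · rw [← hi, eq_inv_iff_mul_eq_one, zpow_ofNat, ← pow_succ,
            show 2 + 1 = orderOf w from hwo.symm, pow_orderOf_eq_one]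
      have hwiter : ∀ k : ℕ, g ^ (2 * k) * w * (g ^ (2 * k))⁻¹ = w := fun k => by
        induction k with
        | zero => simp
        | succ k ih =>
          rw [show 2 * (k + 1) = 2 * k + 1 + 1 from by ring, pow_succ, pow_succ]
          rw [show g ^ (2 * k) * g * g * w * (g ^ (2 * k) * g * g)⁻¹ =
            g ^ (2 * k) * (g * (g * w * g⁻¹) * g⁻¹) * (g ^ (2 * k))⁻¹ by group, hinv, ← conj_inv,
            hinv, inv_inv, ih]
      set o := orderOf g with ho
      set l := ordCompl[2] o
      obtain ⟨k, hk⟩ : Odd l := Nat.odd_iff.2 (Nat.two_dvd_ne_zero.1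
        (Nat.not_dvd_ordCompl Nat.prime_two (orderOf_pos g).ne'))
      set u := g ^ l
      have huw : u * w * u⁻¹ = w⁻¹ := by
        show g ^ l * w * (g ^ l)⁻¹ = w⁻¹
        rw [hk, pow_succ, show g ^ (2 * k) * g * w * (g ^ (2 * k) * g)⁻¹ =
          g ^ (2 * k) * (g * w * g⁻¹) * (g ^ (2 * k))⁻¹ by group, hinv, ← conj_inv, hwiter]
      have hu1 : u ≠ 1 := by
        intro e
        rw [e, one_mul, inv_one, mul_one, eq_inv_iff_mul_eq_one, ← pow_two] at huw
        exact absurd (hwo ▸ orderOf_dvd_of_pow_eq_one huw) (by norm_num)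
      have hupow : u ^ (2 ^ o.factorization 2) = 1 := by
        show (g ^ l) ^ _ = 1
        rw [← pow_mul, mul_comm, Nat.ordProj_mul_ordCompl_eq_self, ho, pow_orderOf_eq_one]
      obtain ⟨j, -, hj⟩ := (Nat.dvd_prime_pow Nat.prime_two).1 (orderOf_dvd_of_pow_eq_one hupow)
      obtain ⟨Q, hQ⟩ := (IsPGroup.of_card (n := j) (by rw [Nat.card_zpowers, hj]) :
        IsPGroup 2 (zpowers u)).exists_le_sylow
      obtain ⟨g₁, hg₁⟩ := MulAction.exists_smul_eq G Q P
      have h1 : g₁ * u * g₁⁻¹ ∈ (P : Subgroup G) := hg₁ ▸ ⟨u, hQ (mem_zpowers u), rfl⟩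
      have hu2 : orderOf u = 2 := by
        refine orderOf_eq_prime ?_ hu1
        have h2 := S.sq _ h1
        rw [show g₁ * u * g₁⁻¹ * (g₁ * u * g₁⁻¹) = g₁ * (u * u) * g₁⁻¹ by group,
          conj_eq_one_iff] at h2
        rw [pow_two, h2]
      exact hreal (S.orderOf_eq_two ha ha1) (hwo ▸ by decide) hw1
        (mem_centralizer_iff.1 (hWC hw) a ha) hu2 huw
    set H := InvolRankOne.M P with hHdef
    set L := centralizer (W : Set G)
    have hML : H ≤ L := S.W_le_normalizer.trans hNC
    have hLt : L ≠ ⊤ := by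
      intro e
      have hn' : W.Normal := ⟨fun w hw g => by
        rw [show g * w * g⁻¹ = w by
          rw [← mem_centralizer_iff.1 (e ▸ mem_top g : g ∈ L) w hw, mul_inv_cancel_right]]
        exact hw⟩
      exact hW (hO W hn' S.W_odd)
    have hrel : H.relIndex L * L.index = H.index := relIndex_mul_index hML
    have hLi : L.index ≠ 1 := fun e => hLt (index_eq_one.1 e)
    have hG : Nat.card G = H.index * Nat.card H := by rw [mul_comm, card_mul_index]
    have hMcard : Nat.card H = 2976 := by rw [hMcard, hW3]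
    rcases hm with rfl | rfl <;> rw [hq] at hn <;> norm_num at hn
    · -- 97 points: transfer at the prime 3
      have hf3 : (Nat.card G).factorization 3 = 1 := by
        rw [hG, hn, hMcard, show (97 : ℕ) * 2976 = 96224 * 3 from rfl,
          Nat.factorization_mul (by norm_num) (by norm_num), Finsupp.add_apply,
          Nat.factorization_eq_zero_of_not_dvd (by norm_num), Nat.prime_three.factorization_self]
      let T : Sylow 3 G := Sylow.ofCard W (by rw [hW3, hf3, pow_one])
      have hTW : (T : Subgroup G) = W := rfl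
      obtain ⟨T', K, hKn, hK⟩ := Transfer.hasNormalPComplement_of_normalizer_le_centralizer T
        (show normalizer ((T : Subgroup G) : Set G) ≤ centralizer ((T : Subgroup G) : Set G) from hNC)
      haveI := hKn
      have hKi : K.index = 3 := by
        rw [hK.symm.index_eq_card, T'.card_eq_multiplicity, hf3, pow_one]
      have hKc : Nat.card K = 96224 := by
        have h := K.card_mul_index
        rw [hKi, hG, hn, hMcard] at h
        omega
      have hPK : (P : Subgroup G) ≤ K := fun x hx => by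
        have h3 := hKi ▸ pow_index_mem K x
        rwa [pow_succ, pow_two, S.sq x hx, one_mul] at h3
      haveI : Fact (Nat.Prime 2) := ⟨Nat.prime_two⟩
      set PK := P.subtype hPK
      have hPKc : Nat.card (PK : Subgroup K) = 32 := by
        rw [Sylow.coe_subtype, Nat.card_congr (subgroupOfEquivOfLe hPK).toEquiv, ← hqdef, hq]
      have hWK : ∀ y ∈ W, y ∈ K → y = 1 := fun y hy hyK => by
        have h1 := hW3 ▸ W.orderOf_dvd_natCard hy
        have h2 := hKc ▸ K.orderOf_dvd_natCard hyK
        exact orderOf_eq_one_iff.1 (Nat.eq_one_of_dvd_coprimes (by norm_num) h1 h2)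
      have hnc : ¬ IsCyclic (PK : Subgroup K) := fun h => by
        haveI : IsCyclic ((P : Subgroup G).subgroupOf K) := h
        haveI : IsCyclic (P : Subgroup G) := isCyclic_of_surjective
          (subgroupOfEquivOfLe hPK).toMonoidHom (subgroupOfEquivOfLe hPK).surjective
        obtain ⟨g, hg⟩ := IsCyclic.exists_generator (α := (P : Subgroup G))
        have h1 : q ≤ 2 := by
          rw [hqdef, ← Nat.card_congr (Equiv.subtypeUnivEquiv hg), Nat.card_zpowers]
          exact Nat.le_of_dvd two_pos (orderOf_dvd_of_pow_eq_one (Subtype.ext (by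
            rw [pow_two]; exact S.sq g g.2)))
        omega
      have hnn : ¬ (PK : Subgroup K).Normal := fun h => by
        have hKN : K ≤ H := by
          rw [show H = normalizer ((P : Subgroup G) : Set G) from hMN]
          intro k hk
          refine mem_normalizer_iff.2 fun x => ⟨fun hx => h.conj_mem ⟨x, hPK hx⟩ hx ⟨k, hk⟩,
            fun hx => ?_⟩
          have := h.conj_mem ⟨_, hPK hx⟩ hx ⟨k, hk⟩⁻¹
          simpa [mem_subgroupOf, mul_assoc, PK] using this
        have := card_dvd_of_le hKN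
        rw [hKc, hMcard] at this
        norm_num at this
      obtain ⟨F, _, _, hF, ⟨e⟩⟩ := S1230.result PK hnc hnn (fun t ht => by
        have ht' : orderOf (t : G) = 2 := by rwa [Subgroup.orderOf_coe]
        obtain ⟨Q, hQ⟩ := (IsPGroup.of_card (n := 1) (by
          rw [Nat.card_zpowers, ht', pow_one]) : IsPGroup 2 (zpowers (t : G))).exists_le_sylow
        obtain ⟨g, hg⟩ := MulAction.exists_smul_eq G Q P
        have hta : g * t * g⁻¹ ∈ (P : Subgroup G) := hg ▸ ⟨t, hQ (mem_zpowers _), rfl⟩
        have hta1 : g * t * g⁻¹ ≠ 1 := fun h => by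
          rw [conj_eq_one_iff.1 h, orderOf_one] at ht'
          exact absurd ht' (by norm_num)
        have hmem : ∀ c ∈ centralizer ({t} : Set K), g * (c : G) * g⁻¹ ∈ (P : Subgroup G) := by
          intro c hc
          have hcC : g * (c : G) * g⁻¹ ∈ centralizer ({g * (t : G) * g⁻¹} : Set G) := by
            rw [mem_centralizer_singleton_iff]
            have h := congrArg Subtype.val (mem_centralizer_singleton_iff.1 hc)
            rw [coe_mul, coe_mul] at h
            rw [show g * (c : G) * g⁻¹ * (g * t * g⁻¹) = g * ((c : G) * t) * g⁻¹ by group, h]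
            group
          obtain ⟨y, hy, x, hx, hyx⟩ := S.exists_decomp hta hta1 hcC
          have hy1 : y = 1 := hWK y (S.O_le_W hta hta1 hy) (by
            have : y = g * (c : G) * g⁻¹ * x⁻¹ := by rw [← hyx, mul_inv_cancel_right]
            rw [this]
            exact mul_mem (hKn.conj_mem _ c.2 g) (inv_mem (hPK hx)))
          rw [← hyx, hy1, one_mul]
          exact hx
        refine ⟨⟨⟨fun c c' => Subtype.ext (Subtype.ext ?_)⟩⟩, fun c hc => Subtype.ext ?_⟩
        · have h := S.comm (hmem c c.2) (hmem c' c'.2)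
          rw [show g * ((c.1 : K) : G) * g⁻¹ * (g * ((c'.1 : K) : G) * g⁻¹) =
              g * (((c.1 : K) : G) * ((c'.1 : K) : G)) * g⁻¹ by group,
            show g * ((c'.1 : K) : G) * g⁻¹ * (g * ((c.1 : K) : G) * g⁻¹) =
              g * (((c'.1 : K) : G) * ((c.1 : K) : G)) * g⁻¹ by group] at h
          exact mul_left_cancel (mul_right_cancel h)
        · have h := S.sq _ (hmem c hc)
          rw [show g * (c : G) * g⁻¹ * (g * c * g⁻¹) = g * ((c : G) * c) * g⁻¹ by group,
            conj_eq_one_iff] at h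
          rw [pow_two]
          exact h)
      rw [show Nat.card PK = 32 from hPKc] at hF
      have h2 : (2 : F) = 0 := by
        have h := FiniteField.cast_card_eq_zero F
        rw [hF] at h
        push_cast at h
        rw [show (32 : F) = 2 ^ 5 by norm_num] at h
        exact pow_eq_zero_iff (by norm_num : (5 : ℕ) ≠ 0) |>.1 h
      have hc := Nat.card_congr e.toEquiv
      rw [hKc, PSL2.card_PSL_of_two_eq_zero h2, hF] at hc
      norm_num at hc
    · -- 129 points: a Sylow 3-subgroup of order 9
      have hf9 : (Nat.card G).factorization 3 = 2 := by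
        rw [hG, hn, hMcard, show (129 : ℕ) * 2976 = 42656 * 3 ^ 2 from rfl,
          Nat.factorization_mul (by norm_num) (by norm_num), Finsupp.add_apply,
          Nat.factorization_eq_zero_of_not_dvd (by norm_num), Nat.prime_three.factorization_pow]
        simp
      obtain ⟨T, hT'⟩ := (IsPGroup.of_card (n := 1) (by rw [hW3, pow_one]) :
        IsPGroup 3 W).exists_le_sylow
      have hTc : Nat.card (T : Subgroup G) = 3 ^ 2 := by rw [T.card_eq_multiplicity, hf9]
      have hTL : (T : Subgroup G) ≤ L := fun x hx => mem_centralizer_iff.2 fun w hw =>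
        congrArg Subtype.val ((IsPGroup.isMulCommutative_of_card_eq_prime_sq hTc).is_comm.comm
          (⟨w, hT' hw⟩ : (T : Subgroup G)) ⟨x, hx⟩)
      have h9 : 9 ∣ Nat.card L := by
        have := card_dvd_of_le hTL
        rwa [hTc] at this
      have hLc : Nat.card L = H.relIndex L * 2976 := by
        rw [relIndex, ← hMcard, mul_comm, ← Nat.card_congr (subgroupOfEquivOfLe hML).toEquiv,
          card_mul_index]
      have hr : H.relIndex L = 3 := by
        have hd : H.relIndex L ∣ 129 := ⟨L.index, by rw [hrel, hn]⟩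
        have h3 : 3 ∣ H.relIndex L := by omega
        obtain ⟨r, hr⟩ := h3
        have hr43 : r ∣ 43 := by
          rw [hr] at hd
          exact Nat.dvd_of_mul_dvd_mul_left (by norm_num : 0 < 3) hd
        rcases (Nat.dvd_prime (by norm_num : Nat.Prime 43)).1 hr43 with rfl | rfl
        · rw [hr]
        · rw [hr, hn] at hrel
          omega
      -- three points, each fixed by the Klein group generated by `a` and `b`
      set HL := H.subgroupOf L
      haveI : Fintype (L ⧸ HL) := Fintype.ofFinite _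
      have hc3 : Fintype.card (L ⧸ HL) = 3 := by
        rw [← Nat.card_eq_fintype_card, ← index_eq_card]; exact hr
      obtain ⟨c, hc⟩ : ∃ c : L ⧸ HL, c ≠ ((1 : L) : L ⧸ HL) := by
        by_contra h
        push Not at h
        have := Fintype.card_le_one_iff.2 fun x y => (h x).trans (h y).symm
        omega
      have hmove : ∀ x : G, ∀ hx : x ∈ (P : Subgroup G), x ≠ 1 →
          (⟨x, hML (S.P_le_M hx)⟩ : L) • c ≠ c := by
        intro x hx hx1 e
        induction c using Quotient.inductionOn' with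
        | h l =>
          refine hx1 (S.eq_one_of_fix hMt hx (c := ((l : G) : G ⧸ H)) ?_ ?_)
          · have := QuotientGroup.eq.1 (show (((⟨x, hML (S.P_le_M hx)⟩ : L) * l : L) : L ⧸ HL) =
              ((l : L) : L ⧸ HL) from e)
            exact QuotientGroup.eq.2 (mem_subgroupOf.1 this)
          · intro e'
            refine hc ?_
            exact QuotientGroup.eq.2 (mem_subgroupOf.2 (QuotientGroup.eq.1 e' :))
      have hbase : ∀ x : G, ∀ hx : x ∈ (P : Subgroup G),
          (⟨x, hML (S.P_le_M hx)⟩ : L) • c ≠ ((1 : L) : L ⧸ HL) := by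
        intro x hx e
        refine hc ?_
        have h1 : (⟨x, hML (S.P_le_M hx)⟩ : L)⁻¹ • ((1 : L) : L ⧸ HL) = ((1 : L) : L ⧸ HL) := by
          refine QuotientGroup.eq.2 (mem_subgroupOf.2 ?_)
          simpa using S.P_le_M hx
        rw [← e, inv_smul_smul] at h1
        rw [h1, e]
      have hsame : (⟨a, hML (S.P_le_M ha)⟩ : L) • c = (⟨b, hML (S.P_le_M hb)⟩ : L) • c := by
        by_contra hne
        have h4 : ({((1 : L) : L ⧸ HL), c, (⟨a, hML (S.P_le_M ha)⟩ : L) • c,
            (⟨b, hML (S.P_le_M hb)⟩ : L) • c} : Finset (L ⧸ HL)).card = 4 := by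
          rw [Finset.card_insert_of_notMem (by simp [hc.symm, (hbase a ha).symm, (hbase b hb).symm]),
            Finset.card_insert_of_notMem (by simp [(hmove a ha ha1).symm, (hmove b hb hb1).symm]),
            Finset.card_insert_of_notMem (by simp [hne]), Finset.card_singleton]
        have := Finset.card_le_univ ({((1 : L) : L ⧸ HL), c, (⟨a, hML (S.P_le_M ha)⟩ : L) • c,
            (⟨b, hML (S.P_le_M hb)⟩ : L) • c} : Finset (L ⧸ HL))
        omega
      refine hmove (a⁻¹ * b) (mul_mem (inv_mem ha) hb) (fun e => hab (inv_mul_eq_one.1 e)) ?_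
      rw [show (⟨a⁻¹ * b, hML (S.P_le_M (mul_mem (inv_mem ha) hb))⟩ : L) =
        (⟨a, hML (S.P_le_M ha)⟩ : L)⁻¹ * ⟨b, hML (S.P_le_M hb)⟩ from rfl, mul_smul, ← hsame,
        inv_smul_smul]
  · -- many points: the class sum
    obtain ⟨u, hu, hu1⟩ := S.exists_mem_ne_one
    choose d hd using fun χ : IrrCharacter G => S.exists_int hu χ
    set B := Finset.univ.filter (fun χ : IrrCharacter G => χ ∈ principalBlock M G) with hBdef
    have hn : 5 * q + 1 ≤ (InvolRankOne.M P).index := by
      have h1 := S.index_modEq hMt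
      rw [← hqdef, Nat.ModEq, hq] at h1
      rw [hq] at hbig ⊢
      omega
    have hup := S.sum_cube_le hM hT hu hu1 d hd
    rw [← hqdef, ← hBdef, ← card_mul_index (InvolRankOne.M P)] at hup
    set R := ∑ χ ∈ B, (d χ : ℝ) ^ 3 / charDegree χ.1 with hR
    have hsq : ∑ χ ∈ B, d χ * d χ = (q : ℤ) := by
      have h := S.sum_sq hM hu hu1
      rw [Finset.sum_congr rfl (g := fun χ => ((d χ * d χ : ℤ) : ℂ)) fun χ _ => by
        rw [hd χ, map_intCast, Int.cast_mul], ← Int.cast_sum] at h
      exact_mod_cast h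
    set t := Char.trivialChar G
    have ht : t ∈ B := Finset.mem_filter.2 ⟨Finset.mem_univ _, Blocks.trivial_mem_principalBlock⟩
    have hdt : d t = 1 := by
      have := hd t
      rw [Char.trivialChar_apply] at this
      exact_mod_cast this.symm
    have hft : charDegree t.1 = 1 := by
      have := Char.charDegree_cast t
      rw [Char.trivialChar_apply] at this
      exact_mod_cast this
    have hrest : ∑ χ ∈ B.erase t, d χ * d χ = (31 : ℤ) := by
      rw [Finset.sum_erase_eq_sub ht, hsq, hdt, hq]; norm_num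
    have hb : ∀ χ ∈ B.erase t, -((d χ : ℝ) ^ 2 / 63 + (if d χ * d χ = 4 then (64 : ℝ) / 2961 else 0) +
        (if d χ * d χ = 9 then (64 : ℝ) / 875 else 0) +
        (if d χ * d χ = 16 then (128 : ℝ) / 819 else 0) +
        (if d χ * d χ = 25 then (3200 : ℝ) / 11781 else 0)) ≤ (d χ : ℝ) ^ 3 / charDegree χ.1 := by
      intro χ hχ
      refine cube_bound_thirtytwo (Char.charDegree_pos χ) ?_ ?_
      · have := S.degree_ge hO hM hT hW hu hu1
          (Finset.mem_filter.1 (Finset.mem_of_mem_erase hχ)).2 (hd χ)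
        rw [← hqdef, hq] at this
        push_cast at this
        linarith
      · exact hrest ▸ Finset.single_le_sum (f := fun χ => d χ * d χ) (fun χ _ => mul_self_nonneg _) hχ
    set n₄ := ((B.erase t).filter fun χ => d χ * d χ = 4).card
    set n₉ := ((B.erase t).filter fun χ => d χ * d χ = 9).card
    set n₁₆ := ((B.erase t).filter fun χ => d χ * d χ = 16).card
    set n₂₅ := ((B.erase t).filter fun χ => d χ * d χ = 25).card
    have hcount : 4 * (n₄ : ℤ) + 9 * n₉ + 16 * n₁₆ + 25 * n₂₅ ≤ 31 := by
      have h1 : ∑ χ ∈ B.erase t, ((if d χ * d χ = 4 then (4 : ℤ) else 0) +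
          (if d χ * d χ = 9 then 9 else 0) + (if d χ * d χ = 16 then 16 else 0) +
          (if d χ * d χ = 25 then 25 else 0)) ≤ ∑ χ ∈ B.erase t, d χ * d χ :=
        Finset.sum_le_sum fun χ _ => by
          have := mul_self_nonneg (d χ)
          split_ifs <;> omega
      rw [hrest, Finset.sum_add_distrib, Finset.sum_add_distrib, Finset.sum_add_distrib,
        Finset.sum_ite, Finset.sum_ite, Finset.sum_ite, Finset.sum_ite] at h1
      simp only [Finset.sum_const, nsmul_eq_mul] at h1
      norm_num at h1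
      linarith
    have hex : (n₄ : ℝ) * (64 / 2961) + n₉ * (64 / 875) + n₁₆ * (128 / 819) +
        n₂₅ * (3200 / 11781) ≤ 0.3029 := by
      by_cases h25 : n₂₅ = 0
      · have h : 4 * (n₄ : ℝ) + 9 * n₉ + 16 * n₁₆ ≤ 31 := by
          rw [h25, Nat.cast_zero, mul_zero, add_zero] at hcount
          exact_mod_cast hcount
        rw [h25]
        have := Nat.cast_nonneg (α := ℝ) n₄
        have := Nat.cast_nonneg (α := ℝ) n₉
        have := Nat.cast_nonneg (α := ℝ) n₁₆
        norm_num
        linarith
      · obtain ⟨e1, e2, e3, e4⟩ : n₂₅ = 1 ∧ n₁₆ = 0 ∧ n₉ = 0 ∧ n₄ ≤ 1 := by omega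
        rw [e1, e2, e3]
        have : (n₄ : ℝ) ≤ 1 := by exact_mod_cast e4
        norm_num
        linarith
    have hlow : -((31 : ℝ) / 63 + (n₄ * (64 / 2961) + n₉ * (64 / 875) + n₁₆ * (128 / 819) +
        n₂₅ * (3200 / 11781))) ≤ ∑ χ ∈ B.erase t, (d χ : ℝ) ^ 3 / charDegree χ.1 := by
      have hrest' : ∑ χ ∈ B.erase t, (d χ : ℝ) ^ 2 = 31 := by
        have := congrArg (Int.cast : ℤ → ℝ) hrest
        push_cast at this
        simpa [pow_two] using this
      refine le_trans (le_of_eq ?_) (Finset.sum_le_sum hb)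
      rw [Finset.sum_neg_distrib, Finset.sum_add_distrib, Finset.sum_add_distrib,
        Finset.sum_add_distrib, Finset.sum_add_distrib, ← Finset.sum_div,
        hrest', Finset.sum_ite, Finset.sum_ite, Finset.sum_ite, Finset.sum_ite]
      simp [n₄, n₉, n₁₆, n₂₅]
      ring
    have hR2 : (0.2 : ℝ) ≤ R := by
      rw [hR, ← Finset.add_sum_erase _ _ ht, hdt, hft]
      norm_num
      linarith
    have hWpos : (0 : ℝ) < Nat.card (InvolRankOne.W P) := Nat.cast_pos.2 Nat.card_pos
    push_cast at hup
    rw [hMcard, hq] at hup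
    norm_num at hup
    have hn' : (161 : ℝ) ≤ (InvolRankOne.M P).index := by
      rw [hq] at hn
      exact_mod_cast hn
    rw [← Nat.card_eq_fintype_card (α := InvolRankOne.W P)] at hup
    nlinarith [mul_le_mul_of_nonneg_right (mul_le_mul hR2 hn' (by norm_num) (le_trans (by norm_num) hR2)) hWpos.le]


end Setup

end Cfsg.Agent.InvolRankOne

namespace Cfsg.Agent.EqualOrderConj

open Cfsg Subgroup

universe u

/-- A non-normal Sylow 2-subgroup of order 8 or 32 with small centralizers gives `PSL(2, |P|)`. -/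
theorem psl_of_free {G : Type u} [Group G] [Finite G] (P : Sylow 2 G)
    (hsq : ∀ x ∈ (P : Subgroup G), x * x = 1)
    (hq : Nat.card (P : Subgroup G) = 8 ∨ Nat.card (P : Subgroup G) = 32)
    (hfree : ∀ {t : G}, t ∈ (P : Subgroup G) → t ≠ 1 →
      centralizer ({t} : Set G) ≤ centralizer ((P : Subgroup G) : Set G))
    (hT : InvolRankOne.Transitive P)
    (hO : ∀ K : Subgroup G, K.Normal → Odd (Nat.card K) → K = ⊥)
    (hnn : ¬ (P : Subgroup G).Normal)
    (hreal : ∀ {t h u : G}, orderOf t = 2 → Odd (orderOf h) → h ≠ 1 → t * h = h * t →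
      orderOf u = 2 → u * h * u⁻¹ ≠ h⁻¹) :
    ∃ (F : Type) (_ : Field F) (_ : Fintype F), Fintype.card F = Nat.card (P : Subgroup G) ∧
      Nonempty (G ≃* Matrix.ProjectiveSpecialLinearGroup (Fin 2) F) := by
  haveI := Fintype.ofFinite G
  haveI : Fact (Nat.Prime 2) := ⟨Nat.prime_two⟩
  have S : InvolRankOne.Setup P :=
    ⟨hsq, by omega, fun g _ x hx hx1 h => hfree hx hx1 (mem_centralizer_singleton_iff.2 h)⟩
  obtain ⟨M, hM⟩ := CharInt.exists_isPModular_of_prime Nat.prime_two
  haveI := hM.2.1
  have hMt : InvolRankOne.M P ≠ ⊤ := fun e => by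
    rw [(S.facts_of_free hfree hT).2.1] at e
    exact hnn (normalizer_eq_top_iff.1 e)
  rcases hq with h | h
  · exact (S.normal_or_psl (Or.inl h) (S.le_of_transitive hT) hO hT hM).resolve_left
      fun h' => hnn h'.1
  · exact S.psl_of_W_eq_bot (S.W_eq_bot_thirtytwo h hfree hreal hO hT hM hMt) hnn

end Cfsg.Agent.EqualOrderConj
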