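import Cfsg.Agent.Lib.EqualOrderConj.Kernel
import Cfsg.Agent.Lib.EqualOrderConj.ThirtyTwo
import Cfsg.Agent.Lib.WRFusion.Simple
import Cfsg.Agent.Lib.LocalStructure.SL23Normal
import Cfsg.Agent.Lib.PSL2.PGLHom
import Cfsg.Agent.Lib.ZStar.Main
import Cfsg.Agent.S0201
import Cfsg.Agent.S0228
import Cfsg.Agent.S0265
import Cfsg.Agent.S0813
import Cfsg.Agent.S2119
import Cfsg.Agent.S3278
import Cfsg.Agent.S3378
import Mathlib.FieldTheory.Finite.GaloisField

/-!
# Groups in which subgroups of equal order are conjugate, without odd core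
-/

set_option autoImplicit false
set_option linter.style.haveILetI false
set_option linter.unusedSectionVars false

namespace Cfsg.Agent.EqualOrderConj

open Cfsg Subgroup

universe u

variable {G : Type u} [Group G] [Finite G]

/-- Involutions of the centralizer act trivially on a four-group Sylow subgroup. -/
theorem centralizer_le_of_four (hC : EqConj G) (P : Sylow 2 G)
    (hsq : ∀ x ∈ (P : Subgroup G), x * x = 1) (h4 : Nat.card (P : Subgroup G) = 4) {t : G}
    (ht : t ∈ (P : Subgroup G)) (ht1 : t ≠ 1) :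
    centralizer ({t} : Set G) ≤ centralizer ((P : Subgroup G) : Set G) := by
  classical
  haveI : Fact (Nat.Prime 2) := ⟨Nat.prime_two⟩
  intro g hg
  have hgN := centralizer_le_normalizer hC P hsq ht ht1 hg
  refine mem_centralizer_iff.2 fun v hv => ?_
  by_contra hne
  have hv1 : v ≠ 1 := fun e => hne (by rw [e, one_mul, mul_one])
  have hgt := mem_centralizer_singleton_iff.1 hg
  have hvt : v ≠ t := fun e => hne (by rw [e, hgt])
  -- the element `g` squared fixes `v`
  have hcases : ∀ y ∈ (P : Subgroup G), y = 1 ∨ y = t ∨ y = v ∨ y = t * v := by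
    intro y hy
    haveI := Fintype.ofFinite (P : Subgroup G)
    let s : Finset (P : Subgroup G) := {1, ⟨t, ht⟩, ⟨v, hv⟩, ⟨t, ht⟩ * ⟨v, hv⟩}
    have hs : s = Finset.univ := by
      refine (Finset.card_eq_iff_eq_univ _).1 ?_
      rw [← Nat.card_eq_fintype_card, h4]
      have e1 : t * v ≠ 1 := fun e => hvt (by
        rw [← inv_eq_of_mul_eq_one_right e, inv_eq_of_mul_eq_one_right (hsq t ht)])
      have e2 : t * v ≠ t := fun e => hv1 (mul_left_cancel (e.trans (mul_one t).symm))
      have e3 : t * v ≠ v := fun e => ht1 (mul_right_cancel (e.trans (one_mul v).symm))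
      simp only [s]
      rw [Finset.card_insert_of_notMem (by simp [Subtype.ext_iff, ht1.symm, hv1.symm, e1.symm]),
        Finset.card_insert_of_notMem (by simp [Subtype.ext_iff, hvt.symm, e2.symm]),
        Finset.card_insert_of_notMem (by simp [Subtype.ext_iff, e3.symm]), Finset.card_singleton]
    have := Finset.mem_univ (⟨y, hy⟩ : (P : Subgroup G))
    rw [← hs] at this
    simpa [s, Subtype.ext_iff] using this
  have hgv : g * v * g⁻¹ = t * v := by
    rcases hcases _ ((mem_normalizer_iff.1 hgN v).1 hv) with h | h | h | h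
    · exact absurd (conj_eq_one_iff.1 h) hv1
    · refine absurd ?_ hvt
      have := congrArg (fun z => g⁻¹ * z * g) h
      rw [show g⁻¹ * (g * v * g⁻¹) * g = v by group] at this
      rw [this, mul_assoc, ← hgt, inv_mul_cancel_left]
    · exact absurd (mul_inv_eq_iff_eq_mul.1 h).symm hne
    · exact h
  have hiter : ∀ k : ℕ, g ^ (2 * k) * v * (g ^ (2 * k))⁻¹ = v := fun k => by
    induction k with
    | zero => simp
    | succ k ih =>
      rw [show 2 * (k + 1) = 2 * k + 1 + 1 from by ring, pow_succ, pow_succ,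
        show g ^ (2 * k) * g * g * v * (g ^ (2 * k) * g * g)⁻¹ =
          g ^ (2 * k) * (g * (g * v * g⁻¹) * g⁻¹) * (g ^ (2 * k))⁻¹ by group, hgv,
        show g * (t * v) * g⁻¹ = g * t * (g⁻¹ * (g * v * g⁻¹)) by group, hgt, hgv,
        show t * g * (g⁻¹ * (t * v)) = (t * t) * v by group, hsq t ht, one_mul, ih]
  obtain ⟨k, hk⟩ : Odd (ordCompl[2] (orderOf g)) := Nat.odd_iff.2 (Nat.two_dvd_ne_zero.1
    (Nat.not_dvd_ordCompl Nat.prime_two (orderOf_pos g).ne'))
  set u := g ^ ordCompl[2] (orderOf g) with hu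
  have hupow : u ^ (2 ^ (orderOf g).factorization 2) = 1 := by
    rw [hu, ← pow_mul, mul_comm, Nat.ordProj_mul_ordCompl_eq_self, pow_orderOf_eq_one]
  obtain ⟨j, -, hj⟩ := (Nat.dvd_prime_pow Nat.prime_two).1 (orderOf_dvd_of_pow_eq_one hupow)
  have huP := mem_of_two_element P (r := u) (pow_mem hgN _) hj
  have h1 : u * v * u⁻¹ = v := by rw [sylow_comm P hsq huP hv, mul_inv_cancel_right]
  rw [hu, hk, pow_succ, show g ^ (2 * k) * g * v * (g ^ (2 * k) * g)⁻¹ =
    g ^ (2 * k) * (g * v * g⁻¹) * (g ^ (2 * k))⁻¹ by group, hgv,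
    show g ^ (2 * k) * (t * v) * (g ^ (2 * k))⁻¹ =
      g ^ (2 * k) * t * (g ^ (2 * k))⁻¹ * (g ^ (2 * k) * v * (g ^ (2 * k))⁻¹) by group, hiter,
    ((show Commute g t from hgt).pow_left (2 * k)).eq, mul_inv_cancel_right] at h1
  exact ht1 (mul_right_cancel (h1.trans (one_mul v).symm))

theorem mem_of_sylow_normal {P : Sylow 2 G} (hn : (P : Subgroup G).Normal) {x : G} {k : ℕ}
    (hx : orderOf x = 2 ^ k) : x ∈ (P : Subgroup G) :=
  mem_of_two_element P (by rw [normalizer_eq_top_iff.2 hn]; exact mem_top x) hx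

/-- A four-group Sylow 2-subgroup: `A4` or `A5`. -/
theorem klein_case (hC : EqConj G) (hO : ∀ K : Subgroup G, K.Normal → Odd (Nat.card K) → K = ⊥)
    (P : Sylow 2 G) (hsq : ∀ x ∈ (P : Subgroup G), x * x = 1)
    (h4 : Nat.card (P : Subgroup G) = 4) :
    ((P : Subgroup G).Normal ∧ Nat.card G = 12 ∧ Nonempty (G ≃* alternatingGroup (Fin 4))) ∨
      Nonempty (G ≃* alternatingGroup (Fin 5)) := by
  classical
  haveI : Fact (Nat.Prime 2) := ⟨Nat.prime_two⟩
  have hord : ∀ {x : G}, x ∈ (P : Subgroup G) → x ≠ 1 → orderOf x = 2 := fun hx hx1 =>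
    orderOf_eq_prime (by rw [pow_two]; exact hsq _ hx) hx1
  haveI : Fintype (P : Subgroup G) := Fintype.ofFinite _
  have hne3 : ∀ x : G, ∃ t ∈ (P : Subgroup G), t ≠ 1 ∧ t ≠ x := by
    intro x
    by_contra h
    push Not at h
    have hsub : ((P : Subgroup G) : Set G) ⊆ ({1, x} : Set G) := fun y hy =>
      (em (y = 1)).imp id fun hy1 => h y hy hy1
    have h2 : Set.ncard ((P : Subgroup G) : Set G) ≤ 2 :=
      (Set.ncard_le_ncard hsub).trans ((Set.ncard_insert_le _ _).trans (by simp))
    rw [← Nat.card_coe_set_eq, SetLike.coe_sort_coe, h4] at h2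
    omega
  obtain ⟨t, ht, ht1, -⟩ := hne3 1
  by_cases hn : (P : Subgroup G).Normal
  · left
    have hN : normalizer ((P : Subgroup G) : Set G) = ⊤ := normalizer_eq_top_iff.2 hn
    set N := normalizer ((P : Subgroup G) : Set G)
    have hK : pPrimeCore 2 N = ⊥ := by
      haveI : N.Normal := by rw [hN]; infer_instance
      refine (map_eq_bot_iff_of_injective _ N.subtype_injective).1 (hO _ inferInstance ?_)
      rw [card_map_of_injective N.subtype_injective]
      exact Nat.coprime_two_right.1 PCore.coprime_card_pPrimeCore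
    have hcard : Nat.card G = 12 := by
      have h1 := card_quotient P hsq
      have h2 : Nat.card (N ⧸ pPrimeCore 2 N) = Nat.card G := by
        rw [← index_eq_card, hK, index_bot, hN, card_top]
      rw [h2, relIndex_eq P hC hsq ht ht1, relIndex_eq_one.2 (centralizer_le_of_four hC P hsq h4 ht ht1),
        h4] at h1
      exact h1
    refine ⟨hn, hcard, S0228.result hcard fun z hz hzc => ?_⟩
    obtain ⟨a, ha, ha1, haz⟩ := hne3 z
    obtain ⟨g, hg⟩ := isConj_involutions hC hz (hord ha ha1)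
    rw [mem_center_iff.1 hzc g, mul_inv_cancel_right] at hg
    exact haz hg.symm
  · right
    -- two involutions do not commute
    obtain ⟨a, b, ha, hb, hab⟩ : ∃ a b : G, orderOf a = 2 ∧ orderOf b = 2 ∧ a * b ≠ b * a := by
      by_contra h
      push Not at h
      refine hn ⟨fun x hx g => ?_⟩
      by_cases hx1 : x = 1
      · rw [hx1, mul_one, mul_inv_cancel]; exact one_mem _
      have hgx : orderOf (g * x * g⁻¹) = 2 := by
        rw [← MulAut.conj_apply, MulEquiv.orderOf_eq]; exact hord hx hx1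
      exact mem_of_two_element P (k := 1) (centralizer_le_normalizer hC P hsq ht ht1
        (mem_centralizer_singleton_iff.2 (h _ _ hgx (hord ht ht1)))) (by rw [hgx, pow_one])
    obtain ⟨L, hLn, hLs, hLa, hall⟩ := WRFusion.exists_simple_normal
      (hO _ inferInstance PCore.odd_card_oddCore)
      (fun u v hu hv => isConj_iff.2 (isConj_involutions hC hu hv)) ha hb hab
    haveI := hLn
    have hPL : (P : Subgroup G) ≤ L := fun x hx => by
      by_cases hx1 : x = 1
      · rw [hx1]; exact one_mem _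
      · exact hall x (hord hx hx1)
    set S₀ : Subgroup L := ((P.subtype hPL : Sylow 2 L) : Subgroup L) with hS₀
    set tL : L := ⟨t, hPL ht⟩
    have htL : orderOf tL = 2 := by rw [Subgroup.orderOf_mk]; exact hord ht ht1
    have hle : S₀ ≤ centralizer ({tL} : Set L) := fun x hx =>
      mem_centralizer_singleton_iff.2 (Subtype.ext (sylow_comm P hsq hx ht))
    have hS4 : Nat.card S₀ = 4 := by
      rw [hS₀, Sylow.coe_subtype, Nat.card_congr (subgroupOfEquivOfLe hPL).toEquiv, h4]
    have hK4 : IsKleinFour S₀ := by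
      refine ⟨hS4, Nat.dvd_antisymm (Monoid.exponent_dvd_of_forall_pow_eq_one fun x =>
        Subtype.ext (Subtype.ext ?_)) ?_⟩
      · rw [pow_two]; exact hsq _ x.2
      · have := Monoid.order_dvd_exponent (⟨tL, ht⟩ : S₀)
        rwa [show orderOf (⟨tL, ht⟩ : S₀) = 2 from (Subgroup.orderOf_coe _).symm.trans htL] at this
    have hodd : ¬ 2 ∣ S₀.relIndex (centralizer ({tL} : Set L)) := fun h =>
      (P.subtype hPL).not_dvd_index (h.trans ⟨_, (relIndex_mul_index hle).symm⟩)
    have hnorm : (S₀.subgroupOf (centralizer ({tL} : Set L))).Normal := by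
      refine ⟨fun x hx c => ?_⟩
      have hcC : ((c : L) : G) ∈ centralizer ({t} : Set G) := mem_centralizer_singleton_iff.2
        (congrArg Subtype.val (mem_centralizer_singleton_iff.1 c.2))
      exact (mem_normalizer_iff.1 (centralizer_le_normalizer hC P hsq ht ht1 hcC) _).1 hx
    obtain ⟨e⟩ := @S3278.result L _ _ hLs tL htL S₀ hle hK4 hodd hnorm
    -- the centralizer of `L` is trivial
    set C := centralizer (L : Set G)
    have hCL : C.subgroupOf L = ⊥ := by
      rcases hLs.eq_bot_or_eq_top_of_normal (C.subgroupOf L) inferInstance with h | h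
      · exact h
      · exact absurd ⟨⟨fun x y => Subtype.ext (mem_centralizer_iff.1
          (subgroupOf_eq_top.1 h y.2) x x.2)⟩⟩ hLa
    have hC1 : C = ⊥ := by
      refine hO C inferInstance (Nat.not_even_iff_odd.1 fun he => ?_)
      obtain ⟨u, hu⟩ := exists_prime_orderOf_dvd_card' (G := C) 2 (even_iff_two_dvd.1 he)
      have hu' : orderOf (u : G) = 2 := by rw [Subgroup.orderOf_coe, hu]
      have h1 : (⟨u, hall _ hu'⟩ : L) ∈ C.subgroupOf L := u.2
      rw [hCL, mem_bot] at h1
      rw [show (u : G) = 1 from congrArg Subtype.val h1, orderOf_one] at hu'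
      exact absurd hu' (by norm_num)
    let φ : G →* MulAut L := MulAut.conjNormal
    have hφ : Function.Injective φ := (injective_iff_map_eq_one φ).2 fun g hg => mem_bot.1 (hC1 ▸
      mem_centralizer_iff.2 fun l hl => by
        have := congrArg (fun ψ : MulAut L => ((ψ ⟨l, hl⟩ : L) : G)) hg
        simp only [φ, MulAut.conjNormal_apply, MulAut.one_apply] at this
        exact (mul_inv_eq_iff_eq_mul.1 this).symm)
    have hd : Nat.card G ∣ 120 := by
      have h := card_dvd_of_injective φ hφ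
      rwa [Nat.card_congr (MulAut.congr e).toEquiv,
        ← Nat.card_congr (MulEquiv.ofBijective _ (S2119.result 5 (by norm_num) (by norm_num))).toEquiv,
        Nat.card_perm, Nat.card_fin, show (5 : ℕ).factorial = 120 from rfl] at h
    have h60 : Nat.card L = 60 := by
      rw [Nat.card_congr e.toEquiv, nat_card_alternatingGroup, Nat.card_fin]
      rfl
    have hidx : L.index = 1 := by
      have h1 : L.index ∣ 2 := by
        rw [← card_mul_index L, h60] at hd
        exact Nat.dvd_of_mul_dvd_mul_left (by norm_num : 0 < 60) hd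
      have h2 : ¬ 2 ∣ L.index := fun h => P.not_dvd_index (h.trans (index_dvd_of_le hPL))
      exact ((Nat.prime_two.eq_one_or_self_of_dvd _ h1).resolve_right fun h => h2 (h ▸ dvd_rfl))
    exact ⟨((MulEquiv.subgroupCongr (index_eq_one.1 hidx)).trans topEquiv).symm.trans e⟩

/-- The quotient of a normalizer by its odd core is the group if the Sylow subgroup is normal. -/
theorem equiv_normalizer_quotient (hO : ∀ K : Subgroup G, K.Normal → Odd (Nat.card K) → K = ⊥)
    {P : Sylow 2 G} (hn : (P : Subgroup G).Normal) :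
    Nonempty (G ≃* ↥(normalizer ((P : Subgroup G) : Set G)) ⧸
      pPrimeCore 2 ↥(normalizer ((P : Subgroup G) : Set G))) := by
  haveI : Fact (Nat.Prime 2) := ⟨Nat.prime_two⟩
  have hN : normalizer ((P : Subgroup G) : Set G) = ⊤ := normalizer_eq_top_iff.2 hn
  set N := normalizer ((P : Subgroup G) : Set G)
  haveI : N.Normal := by rw [hN]; infer_instance
  have hK : pPrimeCore 2 N = ⊥ := by
    refine (map_eq_bot_iff_of_injective _ N.subtype_injective).1 (hO _ inferInstance ?_)
    rw [card_map_of_injective N.subtype_injective]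
    exact Nat.coprime_two_right.1 PCore.coprime_card_pPrimeCore
  exact ⟨(((MulEquiv.subgroupCongr hN).trans topEquiv).symm.trans
    QuotientGroup.quotientBot.symm).trans (QuotientGroup.quotientMulEquivOfEq hK.symm)⟩

/-- In the semi-affine case the kernel is `PSL(2, 2ⁿ)`. -/
theorem kernel_is_psl (hC : EqConj G) (hO : ∀ K : Subgroup G, K.Normal → Odd (Nat.card K) → K = ⊥)
    (P : Sylow 2 G) (hsq : ∀ x ∈ (P : Subgroup G), x * x = 1) (hn : ¬ (P : Subgroup G).Normal)
    {n w : ℕ} (hnw : n = 3 ∧ w = 3 ∨ n = 5 ∧ w = 5) (hcard : Nat.card (P : Subgroup G) = 2 ^ n)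
    (hrel : ∀ {t : G}, t ∈ (P : Subgroup G) → t ≠ 1 →
      (centralizer ((P : Subgroup G) : Set G)).relIndex (centralizer ({t} : Set G)) = w) :
    ∃ K : Subgroup G, K.Normal ∧ (∃ a, 1 ≤ a ∧ K.index = w ^ a) ∧ ¬ w ∣ Nat.card K ∧
      centralizer (K : Set G) = ⊥ ∧
      ∃ (F : Type) (_ : Field F) (_ : Fintype F), Fintype.card F = 2 ^ n ∧
        Nonempty (K ≃* Matrix.ProjectiveSpecialLinearGroup (Fin 2) F) := by
  classical
  haveI : Fact (Nat.Prime 2) := ⟨Nat.prime_two⟩
  obtain ⟨K, hKn, ⟨a, ha, hKi⟩, hwK⟩ := exists_kernel P hC hsq hnw hcard hrel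
  haveI := hKn
  have hwp : w.Prime := by rcases hnw with ⟨-, rfl⟩ | ⟨-, rfl⟩ <;> norm_num
  have hw2 : ¬ 2 ∣ w ^ a := fun h => by
    have := Nat.prime_two.dvd_of_dvd_pow h
    rcases hnw with ⟨-, rfl⟩ | ⟨-, rfl⟩ <;> omega
  have hq8 : Nat.card (P : Subgroup G) = 8 ∨ Nat.card (P : Subgroup G) = 32 := by
    rcases hnw with ⟨rfl, -⟩ | ⟨rfl, -⟩
    · exact Or.inl (by rw [hcard]; norm_num)
    · exact Or.inr (by rw [hcard]; norm_num)
  have hord : ∀ {x : G}, x ∈ (P : Subgroup G) → x ≠ 1 → orderOf x = 2 := fun hx hx1 =>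
    orderOf_eq_prime (by rw [pow_two]; exact hsq _ hx) hx1
  have hPK : (P : Subgroup G) ≤ K := fun x hx => by
    obtain ⟨k, hk⟩ : Odd (w ^ a) := Nat.odd_iff.2 (Nat.two_dvd_ne_zero.1 hw2)
    have h1 := hKi ▸ pow_index_mem K x
    rwa [hk, pow_succ, pow_mul, pow_two, hsq x hx, one_pow, one_mul] at h1
  set PK := P.subtype hPK
  have hPKc : Nat.card (PK : Subgroup K) = Nat.card (P : Subgroup G) := by
    rw [Sylow.coe_subtype, Nat.card_congr (subgroupOfEquivOfLe hPK).toEquiv]
  have hsqK : ∀ x ∈ (PK : Subgroup K), x * x = 1 := fun x hx => Subtype.ext (hsq _ hx)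
  set CP := centralizer ((P : Subgroup G) : Set G)
  have hCPt : ∀ {t : G}, t ∈ (P : Subgroup G) → t ≠ 1 → ∀ k ∈ K, k ∈ centralizer ({t} : Set G) →
      k ∈ CP := by
    intro t ht ht1 k hk hkt
    set Ct := centralizer ({t} : Set G)
    haveI : (CP.subgroupOf Ct).Normal := by
      refine ⟨fun c hc b => mem_subgroupOf.2 (mem_centralizer_iff.2 fun v hv => ?_)⟩
      have hbN := centralizer_le_normalizer hC P hsq ht ht1 b.2
      have hv' : (b : G)⁻¹ * v * (b : G) ∈ (P : Subgroup G) := by
        simpa using (mem_normalizer_iff.1 (inv_mem hbN) v).1 hv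
      have h1 := mem_centralizer_iff.1 (mem_subgroupOf.1 hc) _ hv'
      push_cast
      calc v * ((b : G) * (c : G) * (b : G)⁻¹)
          = (b : G) * ((b : G)⁻¹ * v * (b : G) * (c : G)) * (b : G)⁻¹ := by group
        _ = (b : G) * ((c : G) * ((b : G)⁻¹ * v * (b : G))) * (b : G)⁻¹ := by rw [h1]
        _ = (b : G) * (c : G) * (b : G)⁻¹ * v := by group
    have h1 := pow_index_mem (CP.subgroupOf Ct) (⟨k, hkt⟩ : Ct)
    rw [show (CP.subgroupOf Ct).index = w from hrel ht ht1, mem_subgroupOf] at h1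
    have hco : Nat.gcd w (orderOf k) = 1 := (hwp.coprime_iff_not_dvd.2 fun h =>
      hwK (h.trans (K.orderOf_dvd_natCard hk)))
    have hb := Nat.gcd_eq_gcd_ab w (orderOf k)
    rw [hco] at hb
    rw [← zpow_one k, show (1 : ℤ) = ((1 : ℕ) : ℤ) from rfl, hb, zpow_add, zpow_mul, zpow_mul,
      zpow_natCast, zpow_natCast, pow_orderOf_eq_one, one_zpow, mul_one]
    exact zpow_mem h1 _
  have hfreeK : ∀ {t : K}, t ∈ (PK : Subgroup K) → t ≠ 1 →
      centralizer ({t} : Set K) ≤ centralizer ((PK : Subgroup K) : Set K) := by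
    intro t ht ht1 k hk
    have h := hCPt (t := (t : G)) ht (fun e => ht1 (Subtype.ext e)) k k.2
      (mem_centralizer_singleton_iff.2 (congrArg Subtype.val (mem_centralizer_singleton_iff.1 hk)))
    exact mem_centralizer_iff.2 fun v hv => Subtype.ext (mem_centralizer_iff.1 h v hv)
  have hTK : InvolRankOne.Transitive PK := by
    intro x hx hx1 y hy hy1
    have hx1' : (x : G) ≠ 1 := fun e => hx1 (Subtype.ext e)
    obtain ⟨g, hg, hgxy⟩ := exists_normalizer_conj hC P hsq (a := (x : G)) hx hx1' (b := (y : G)) hy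
      fun e => hy1 (Subtype.ext e)
    set N := normalizer ((P : Subgroup G) : Set G)
    set Cx := centralizer ({(x : G)} : Set G)
    have hCxN : Cx ≤ N := centralizer_le_normalizer hC P hsq hx hx1'
    set M' := K.subgroupOf N
    set C' := Cx.subgroupOf N
    have hM' : M'.index ∣ w ^ a := hKi ▸ relIndex_dvd_index_of_normal K N
    have hC' : C'.index = 2 ^ n - 1 := by
      have h1 := relIndex_mul_relIndex CP Cx N (centralizer_le_centralizer P hx) hCxN
      rw [relIndex_eq P hC hsq hx hx1', hrel hx hx1', show CP.relIndex Cx = w from hrel hx hx1', hcard] at h1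
      exact Nat.eq_of_mul_eq_mul_left hwp.pos h1
    have htop : (M' ⊔ C').index = 1 := by
      refine Nat.eq_one_of_dvd_coprimes ?_ ((index_dvd_of_le le_sup_left).trans hM')
        (hC' ▸ index_dvd_of_le (le_sup_right : C' ≤ M' ⊔ C'))
      refine Nat.Coprime.pow_left a ?_
      rcases hnw with ⟨rfl, rfl⟩ | ⟨rfl, rfl⟩ <;> decide
    have hmem : (⟨g, hg⟩ : N) ∈ ((M' ⊔ C' : Subgroup N) : Set N) := by
      rw [index_eq_one.1 htop]; exact mem_top _
    rw [normal_mul] at hmem
    obtain ⟨m, hm, c, hc, hmc⟩ := hmem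
    refine ⟨⟨(m : G), hm⟩, mem_normalizer_iff.2 fun z => ?_, Subtype.ext ?_⟩
    · exact mem_normalizer_iff.1 m.2 (z : G)
    · have hgmc : (m : G) * (c : G) = g := congrArg Subtype.val hmc
      have hcx := mem_centralizer_singleton_iff.1 (mem_subgroupOf.1 hc)
      show (m : G) * (x : G) * (m : G)⁻¹ = (y : G)
      rw [← hgxy, ← hgmc, show (m : G) * c * x * ((m : G) * c)⁻¹ =
        (m : G) * ((c : G) * x) * (c : G)⁻¹ * (m : G)⁻¹ by group, hcx]
      group
  have hOK : ∀ J : Subgroup K, J.Normal → Odd (Nat.card J) → J = ⊥ := fun J hJ hJo => by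
    haveI := hJ
    refine le_bot_iff.1 ((PCore.le_oddCore hJo).trans (le_of_eq ?_))
    exact PCore.pPrimeCore_eq_bot_of_normal K (hO _ inferInstance PCore.odd_card_oddCore)
  have hnn : ¬ (PK : Subgroup K).Normal := fun h => hn ⟨fun x hx g => by
    by_cases hx1 : x = 1
    · rw [hx1, mul_one, mul_inv_cancel]; exact one_mem _
    have hgK : g * x * g⁻¹ ∈ K := hKn.conj_mem x (hPK hx) g
    refine mem_of_sylow_normal (P := PK) h (x := ⟨_, hgK⟩) (k := 1) ?_
    rw [Subgroup.orderOf_mk, ← MulAut.conj_apply, MulEquiv.orderOf_eq, hord hx hx1, pow_one]⟩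
  obtain ⟨F, i1, i2, hF, he⟩ := psl_of_free PK hsqK (hPKc.symm ▸ hq8) hfreeK hTK hOK hnn
    fun {t h u} ht hh h1 hth hu huh => false_of_inverted hC (t := (t : G)) (h := (h : G)) (u := (u : G))
      (by rwa [Subgroup.orderOf_coe]) (by rwa [Subgroup.orderOf_coe]) (fun e => h1 (Subtype.ext e))
      (congrArg Subtype.val hth) (by rwa [Subgroup.orderOf_coe]) (congrArg Subtype.val huh)
  refine ⟨K, hKn, ⟨a, ha, hKi⟩, hwK, ?_, F, i1, i2, hF.trans (hPKc.trans hcard), he⟩
  -- the centralizer of `K`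
  refine hO _ inferInstance (Nat.not_even_iff_odd.1 fun he' => ?_)
  obtain ⟨v, hv⟩ := exists_prime_orderOf_dvd_card' (G := centralizer (K : Set G)) 2
    (even_iff_two_dvd.1 he')
  refine hnn ⟨fun x hx k => ?_⟩
  by_cases hx1 : x = 1
  · rw [hx1, mul_one, mul_inv_cancel]; exact one_mem _
  obtain ⟨g, hg⟩ := isConj_involutions hC (t := (v : G)) (u := (x : G))
    (by rw [Subgroup.orderOf_coe, hv]) (hord hx fun e => hx1 (Subtype.ext e))
  have hxC : (x : G) ∈ centralizer (K : Set G) :=
    hg ▸ (inferInstance : (centralizer (K : Set G)).Normal).conj_mem _ v.2 g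
  rw [show k * x * k⁻¹ = x from Subtype.ext (by
    push_cast
    rw [mem_centralizer_iff.1 hxC k k.2, mul_inv_cancel_right])]
  exact hx

/-- The list of groups without odd core. -/
def InList (G : Type u) [Group G] : Prop :=
  (IsCyclic G ∧ IsPGroup 2 G) ∨
    Nonempty (G ≃* Cfsg.affineGroup (GaloisField 2 3)) ∨
    Nonempty (G ≃* Cfsg.semiaffineGroup (GaloisField 2 3)) ∨
    Nonempty (G ≃* Cfsg.semiaffineGroup (GaloisField 2 5)) ∨
    Nonempty (G ≃* Matrix.ProjectiveSpecialLinearGroup (Fin 2) (GaloisField 2 3)) ∨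
    Nonempty (G ≃* MulAut (Matrix.ProjectiveSpecialLinearGroup (Fin 2) (GaloisField 2 5))) ∨
    Nonempty (G ≃* alternatingGroup (Fin 4)) ∨
    Nonempty (G ≃* alternatingGroup (Fin 5)) ∨
    Nonempty (G ≃* Matrix.SpecialLinearGroup (Fin 2) (ZMod 3)) ∨
    Nonempty (G ≃* Matrix.SpecialLinearGroup (Fin 2) (ZMod 5))

theorem psl_equiv_galois {F : Type} [Field F] [Fintype F] {n : ℕ} (hn : n ≠ 0)
    (hF : Fintype.card F = 2 ^ n) :
    haveI : Fact (Nat.Prime 2) := ⟨Nat.prime_two⟩
    Nonempty (Matrix.ProjectiveSpecialLinearGroup (Fin 2) F ≃*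
      Matrix.ProjectiveSpecialLinearGroup (Fin 2) (GaloisField 2 n)) := by
  haveI : Fact (Nat.Prime 2) := ⟨Nat.prime_two⟩
  haveI : Fintype (GaloisField 2 n) := Fintype.ofFinite _
  exact ⟨PSL2.pslCongr (FiniteField.ringEquivOfCardEq (K := F) (K' := GaloisField 2 n) (by
    rw [hF, ← Nat.card_eq_fintype_card, GaloisField.card 2 n hn]))⟩

/-- An elementary abelian Sylow 2-subgroup of order at least 8. -/
theorem big_case (hC : EqConj G) (hO : ∀ K : Subgroup G, K.Normal → Odd (Nat.card K) → K = ⊥)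
    (P : Sylow 2 G) (hsq : ∀ x ∈ (P : Subgroup G), x * x = 1)
    (h8 : 8 ≤ Nat.card (P : Subgroup G)) : InList G := by
  classical
  haveI : Fact (Nat.Prime 2) := ⟨Nat.prime_two⟩
  rcases automizer_cases P hC hsq h8 with ⟨hc, hfree, ⟨e⟩⟩ | ⟨n, w, hnw, hcard, hrel, ⟨e⟩⟩
  · by_cases hn : (P : Subgroup G).Normal
    · obtain ⟨e'⟩ := equiv_normalizer_quotient hO hn
      exact Or.inr (Or.inl ⟨e'.trans e⟩)
    obtain ⟨F, i1, i2, hF, ⟨e'⟩⟩ := psl_of_free P hsq (Or.inl hc) hfree
      (fun a ha ha1 b hb hb1 => exists_normalizer_conj hC P hsq ha ha1 hb hb1) hO hn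
      fun {t h u} ht hh h1 hth hu => false_of_inverted hC ht hh h1 hth hu
    obtain ⟨e''⟩ := psl_equiv_galois (n := 3) (by norm_num) (hF.trans (by rw [hc]; norm_num))
    exact Or.inr (Or.inr (Or.inr (Or.inr (Or.inl ⟨e'.trans e''⟩))))
  · by_cases hn : (P : Subgroup G).Normal
    · obtain ⟨e'⟩ := equiv_normalizer_quotient hO hn
      rcases hnw with ⟨rfl, -⟩ | ⟨rfl, -⟩
      · exact Or.inr (Or.inr (Or.inl ⟨e'.trans e⟩))
      · exact Or.inr (Or.inr (Or.inr (Or.inl ⟨e'.trans e⟩)))
    obtain ⟨K, hKn, ⟨a, ha, hKi⟩, hwK, hCK, F, i1, i2, hF, ⟨e'⟩⟩ :=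
      kernel_is_psl hC hO P hsq hn hnw hcard hrel
    haveI := hKn
    have h2F : (2 : F) = 0 := by
      have h := FiniteField.cast_card_eq_zero F
      rw [hF] at h
      push_cast at h
      exact eq_zero_of_pow_eq_zero h
    have hKc : Nat.card K = 2 ^ n * ((2 ^ n) ^ 2 - 1) := by
      rw [Nat.card_congr e'.toEquiv, PSL2.card_PSL_of_two_eq_zero h2F, hF]
    rcases hnw with ⟨rfl, rfl⟩ | ⟨rfl, rfl⟩
    · exact absurd (hKc ▸ by norm_num) hwK
    obtain ⟨e''⟩ := psl_equiv_galois (n := 5) (by norm_num) hF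
    let φ : G →* MulAut K := MulAut.conjNormal
    have hφ : Function.Injective φ := (injective_iff_map_eq_one φ).2 fun g hg => mem_bot.1 (hCK ▸
      mem_centralizer_iff.2 fun l hl => by
        have := congrArg (fun ψ : MulAut K => ((ψ ⟨l, hl⟩ : K) : G)) hg
        simp only [φ, MulAut.conjNormal_apply, MulAut.one_apply] at this
        exact (mul_inv_eq_iff_eq_mul.1 this).symm)
    have hAut : Nat.card (MulAut K) = Nat.card K * 5 := by
      rw [Nat.card_congr (MulAut.congr e').toEquiv,
        S0813.result 2 5 (by norm_num) hF 2 le_rfl (by norm_num), S0265.result,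
        PSL2.card_SL, hKc, hF]
      norm_num
    haveI : Finite (MulAut K) := Finite.of_injective (fun f : MulAut K => (f : K → K))
      DFunLike.coe_injective
    have hle : Nat.card (MulAut K) ≤ Nat.card G := by
      rw [← card_mul_index K, hKi, hAut]
      exact Nat.mul_le_mul_left _ (Nat.le_self_pow (by omega) 5)
    have hbij : Function.Bijective φ := hφ.bijective_of_nat_card_le hle
    exact Or.inr (Or.inr (Or.inr (Or.inr (Or.inr (Or.inl
      ⟨(MulEquiv.ofBijective φ hbij).trans ((MulAut.congr e').trans (MulAut.congr e''))⟩)))))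

/-- A quaternion Sylow 2-subgroup. -/
theorem quaternion_case (hC : EqConj G)
    (hO : ∀ K : Subgroup G, K.Normal → Odd (Nat.card K) → K = ⊥) (P : Sylow 2 G)
    (e : (P : Subgroup G) ≃* QuaternionGroup 2) : InList G := by
  classical
  haveI : Fact (Nat.Prime 2) := ⟨Nat.prime_two⟩
  set Z := Subgroup.center G with hZdef
  have hZ2 : Nat.card Z = 2 := S0201.result P 0 e hO
  have hP8 : Nat.card (P : Subgroup G) = 8 := by
    rw [Nat.card_congr e.toEquiv, Nat.card_eq_fintype_card, QuaternionGroup.card]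
  have hZp : IsPGroup 2 Z := IsPGroup.of_card (n := 1) (by rw [hZ2, pow_one])
  have hZP : Z ≤ (P : Subgroup G) :=
    (PCore.le_pCore hZp).trans (PCore.pCore_le_sylow P)
  set f := QuotientGroup.mk' Z
  have hker : f.ker = Z := QuotientGroup.ker_mk' Z
  set Pb := P.mapSurjective (QuotientGroup.mk'_surjective Z)
  have hPb : (Pb : Subgroup (G ⧸ Z)) = (P : Subgroup G).map f := Sylow.coe_mapSurjective _ _
  have hPb4 : Nat.card (Pb : Subgroup (G ⧸ Z)) = 4 := by
    have h := card_mul_index ((f.domRestrict (P : Subgroup G)).ker)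
    rw [index_ker, MonoidHom.domRestrict_range, ← hPb, hP8, MonoidHom.ker_domRestrict, hker,
      Nat.card_congr (subgroupOfEquivOfLe hZP).toEquiv, hZ2] at h
    omega
  have hsqb : ∀ x ∈ (Pb : Subgroup (G ⧸ Z)), x * x = 1 := by
    intro x hx
    rw [hPb] at hx
    obtain ⟨y, hy, rfl⟩ := hx
    rw [← map_mul]
    refine (QuotientGroup.eq_one_iff _).2 ?_
    have hzq : ∀ q : QuaternionGroup 2, q * q = 1 ∨ q * q = QuaternionGroup.a 2 := by decide
    have hcase : (y * y = 1) ∨ (⟨y, hy⟩ * ⟨y, hy⟩ : (P : Subgroup G)) = e.symm (QuaternionGroup.a 2) := by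
      rcases hzq (e ⟨y, hy⟩) with h | h <;> rw [← map_mul] at h
      · left
        rw [MulEquiv.map_eq_one_iff] at h
        exact congrArg Subtype.val h
      · right
        exact (e.symm_apply_eq.2 h.symm).symm
    rcases hcase with h | h
    · rw [h]; exact one_mem _
    rw [show y * y = ((e.symm (QuaternionGroup.a 2) : (P : Subgroup G)) : G) from congrArg Subtype.val h]
    -- the involution of `P` is central
    obtain ⟨z, hz⟩ := exists_prime_orderOf_dvd_card' (G := Z) 2 (hZ2 ▸ dvd_rfl)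
    have hz' : orderOf (⟨(z : G), hZP z.2⟩ : (P : Subgroup G)) = 2 := by
      rw [← Subgroup.orderOf_coe]
      exact (Subgroup.orderOf_coe z).trans hz
    have huniq : ∀ q : QuaternionGroup 2, q * q = 1 → q ≠ 1 → q = QuaternionGroup.a 2 := by decide
    have hzq' : e ⟨(z : G), hZP z.2⟩ = QuaternionGroup.a 2 := huniq _
      (by rw [← map_mul, ← pow_two, orderOf_dvd_iff_pow_eq_one.1 (dvd_of_eq hz'), map_one])
      (fun h => by
        rw [MulEquiv.map_eq_one_iff] at h
        rw [h, orderOf_one] at hz'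
        exact absurd hz' (by norm_num))
    rw [← hzq', MulEquiv.symm_apply_apply]
    exact z.2
  have hOb : ∀ L : Subgroup (G ⧸ Z), L.Normal → Odd (Nat.card L) → L = ⊥ := by
    intro L hL hLo
    haveI := hL
    set L' := L.comap f with hL'
    have hZL : Z ≤ L' := hker ▸ ker_le_comap f L
    have hcardL : Nat.card L' = 2 * Nat.card L := by
      have h1 := L'.card_mul_index
      rw [hL', index_comap_of_surjective L (QuotientGroup.mk'_surjective Z), ← Z.card_mul_index,
        index_eq_card Z, ← L.card_mul_index, ← mul_assoc, hZ2] at h1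
      exact Nat.eq_of_mul_eq_mul_right (Nat.pos_of_ne_zero index_ne_zero_of_finite) h1
    set ZL := Z.subgroupOf L'
    have hZLi : ZL.index = Nat.card L := by
      have h := ZL.card_mul_index
      rw [Nat.card_congr (subgroupOfEquivOfLe hZL).toEquiv, hZ2, hcardL] at h
      omega
    have hco : Nat.Coprime (Nat.card ZL) ZL.index := by
      rw [Nat.card_congr (subgroupOfEquivOfLe hZL).toEquiv, hZ2, hZLi]
      exact Nat.coprime_two_left.2 hLo
    obtain ⟨H, hH⟩ := exists_right_complement'_of_coprime hco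
    have hHc : Nat.card H = Nat.card L := by rw [← hH.symm.index_eq_card, hZLi]
    haveI : H.Normal := ⟨fun h hh x => by
      obtain ⟨⟨z, k⟩, hzk : (z : L') * (k : L') = x⟩ := hH.2 x
      have hzc : ∀ y : L', (z : L') * y = y * z := fun y =>
        Subtype.ext (mem_center_iff.1 (mem_subgroupOf.1 z.2) (y : G)).symm
      rw [← hzk, mul_inv_rev, ← mul_assoc, mul_assoc (z : L') (k : L') h, hzc, mul_assoc _ (z : L'),
        mul_assoc ((k : L') * h), hzc, mul_assoc ((k : L')⁻¹), mul_inv_cancel, mul_one]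
      exact mul_mem (mul_mem k.2 hh) (inv_mem k.2)⟩
    have hle : H ≤ pPrimeCore 2 L' :=
      PCore.le_pPrimeCore (Nat.coprime_two_right.2 (hHc ▸ hLo))
    have h0 : (pPrimeCore 2 L').map L'.subtype = ⊥ := hO _ inferInstance (by
      rw [card_map_of_injective L'.subtype_injective]
      exact Nat.coprime_two_right.1 PCore.coprime_card_pPrimeCore)
    rw [map_eq_bot_iff_of_injective _ L'.subtype_injective] at h0
    rw [le_bot_iff.1 (hle.trans h0.le), card_bot] at hHc
    exact card_eq_one.1 hHc.symm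
  have hCb : EqConj (G ⧸ Z) := eqConj_quotient hC Z
  have hG : Nat.card G = 2 * Nat.card (G ⧸ Z) := by
    rw [← card_mul_index Z, hZ2, index_eq_card]
  rcases klein_case hCb hOb Pb hsqb hPb4 with ⟨hPbn, h12, -⟩ | he5
  · -- order 24
    rw [h12] at hG
    have hPn : (P : Subgroup G).Normal := by
      have h : ((P : Subgroup G).map f).comap f = (P : Subgroup G) :=
        comap_map_eq_self (by rw [hker]; exact hZP)
      rw [← h, ← hPb]
      exact hPbn.comap f
    have hcore : Cfsg.pCore 2 G = (P : Subgroup G) :=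
      le_antisymm (PCore.pCore_le_sylow P) (haveI := hPn; PCore.le_pCore P.2)
    set CP := centralizer ((P : Subgroup G) : Set G)
    have hCP : IsPGroup 2 CP := by
      haveI := hPn
      have h3 : ¬ 3 ∣ Nat.card CP := fun h => by
        haveI : Fact (Nat.Prime 3) := ⟨Nat.prime_three⟩
        obtain ⟨d, hd⟩ := exists_prime_orderOf_dvd_card' (G := CP) 3 h
        have hd' : orderOf (d : G) = 3 := by rw [Subgroup.orderOf_coe, hd]
        have htop : (P : Subgroup G) ⊔ zpowers (d : G) = ⊤ := by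
          refine eq_top_of_le_card _ (Nat.le_of_dvd Nat.card_pos ?_)
          rw [hG, show 2 * 12 = 8 * 3 from rfl]
          refine Nat.Coprime.mul_dvd_of_dvd_of_dvd (by norm_num) ?_ ?_
          · exact hP8 ▸ card_dvd_of_le le_sup_left
          · exact hd' ▸ (Nat.card_zpowers (d : G)) ▸ card_dvd_of_le le_sup_right
        have hcent : (d : G) ∈ Subgroup.center G := by
          refine mem_center_iff.2 fun g => ?_
          have : (⊤ : Subgroup G) ≤ centralizer ({(d : G)} : Set G) := htop ▸ sup_le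
            (fun x hx => mem_centralizer_singleton_iff.2 (mem_centralizer_iff.1 d.2 x hx))
            (zpowers_le.2 (mem_centralizer_singleton_iff.2 rfl))
          exact mem_centralizer_singleton_iff.1 (this (mem_top g))
        have h2 := hd' ▸ Z.orderOf_dvd_natCard hcent
        rw [hZ2] at h2
        norm_num at h2
      refine IsPGroup.of_card (n := (Nat.card CP).factorization 2) ?_
      have hd : Nat.card CP ∣ 2 ^ 3 * 3 := by
        refine (card_subgroup_dvd_card CP).trans ?_
        rw [hG]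
        norm_num
      have h8 : Nat.card CP ∣ 2 ^ 3 :=
        ((Nat.prime_three.coprime_iff_not_dvd.2 h3).symm).dvd_of_dvd_mul_right hd
      obtain ⟨i, -, hi⟩ := (Nat.dvd_prime_pow Nat.prime_two).1 h8
      rw [hi, Nat.prime_two.factorization_pow, Finsupp.single_eq_same]
    have hCle : centralizer ((Cfsg.pCore 2 G : Subgroup G) : Set G) ≤ Cfsg.pCore 2 G := by
      haveI := hPn
      rw [hcore]
      refine le_trans ?_ hcore.le
      exact PCore.le_pCore hCP
    obtain ⟨d, hd⟩ := exists_prime_orderOf_dvd_card' (G := G) 3 (by rw [hG]; norm_num)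
    set x₀ := e.symm (QuaternionGroup.a 1)
    have hx₀ : orderOf (x₀ : G) = 4 := by
      rw [Subgroup.orderOf_coe, MulEquiv.orderOf_eq, QuaternionGroup.orderOf_a_one]
    obtain ⟨U, hUn, ⟨eU⟩⟩ := LocalStructure.exists_normal_SL23 (x₀ := (x₀ : G))
      (by rw [hcore]; exact x₀.2) hCle (Or.inr (by rw [hcore, hP8, hx₀])) (by rw [hcore, hP8]; norm_num)
      (d := d) (by rw [hd]; norm_num) (fun h => by rw [h, orderOf_one] at hd; norm_num at hd)
    have hU : U = ⊤ := eq_top_of_card_eq _ (by
      rw [Nat.card_congr eU.toEquiv, PSL2.card_SL, ZMod.card, hG]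
      norm_num)
    exact Or.inr (Or.inr (Or.inr (Or.inr (Or.inr (Or.inr (Or.inr (Or.inr (Or.inl
      ⟨((MulEquiv.subgroupCongr hU).trans topEquiv).symm.trans eU⟩))))))))
  · -- order 120
    obtain ⟨e5⟩ := he5
    have h60 : Nat.card (G ⧸ Z) = 60 := by
      rw [Nat.card_congr e5.toEquiv, nat_card_alternatingGroup, Nat.card_fin]
      rfl
    rw [h60] at hG
    have hns : ¬ Group.IsSolvable G := fun h => by
      haveI := h
      haveI : Group.IsSolvable (alternatingGroup (Fin 5)) :=
        Group.isSolvable_of_surjective (f := e5.toMonoidHom.comp f)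
          (e5.surjective.comp (QuotientGroup.mk'_surjective Z))
      have hcomm := IsSimpleGroup.comm_iff_isSolvable.2
        (inferInstance : Group.IsSolvable (alternatingGroup (Fin 5)))
      have h1 := congrArg (fun v : alternatingGroup (Fin 5) => (v : Equiv.Perm (Fin 5)) 0)
        (hcomm ⟨Equiv.swap 0 1 * Equiv.swap 1 2, by simp⟩ ⟨Equiv.swap 0 1 * Equiv.swap 2 3, by simp⟩)
      revert h1; decide
    exact Or.inr (Or.inr (Or.inr (Or.inr (Or.inr (Or.inr (Or.inr (Or.inr (Or.inr
      (S3378.result.1 G hG hns fun Q => ⟨(Q.equiv P).trans e⟩)))))))))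

/-- Groups without odd core in which subgroups of equal order are conjugate. -/
theorem main (hC : EqConj G) (hO : ∀ K : Subgroup G, K.Normal → Odd (Nat.card K) → K = ⊥) :
    InList G := by
  classical
  haveI : Fact (Nat.Prime 2) := ⟨Nat.prime_two⟩
  obtain ⟨P⟩ : Nonempty (Sylow 2 G) := inferInstance
  by_cases hcyc : IsCyclic (P : Subgroup G)
  · haveI := hcyc
    left
    rcases Nat.even_or_odd (Nat.card G) with he | ho
    · obtain ⟨T, K, hKn, hK⟩ := Transfer.hasNormalPComplement_of_normalizer_le_centralizer P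
        (IsCyclic.normalizer_le_centralizer (p := 2)
          ((Nat.minFac_eq_two_iff _).2 (even_iff_two_dvd.1 he)) hcyc)
      have hKo : Odd (Nat.card K) := by
        rw [← hK.index_eq_card]
        exact Nat.odd_iff.2 (Nat.two_dvd_ne_zero.1 T.not_dvd_index)
      have hK1 : K = ⊥ := hO K hKn hKo
      have hT : (T : Subgroup G) = ⊤ := by
        refine eq_top_of_card_eq _ ?_
        rw [← hK.symm.index_eq_card, hK1, index_bot]
      haveI : IsCyclic (T : Subgroup G) :=
        isCyclic_of_surjective (P.equiv T).toMonoidHom (P.equiv T).surjective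
      refine ⟨isCyclic_of_surjective ((MulEquiv.subgroupCongr hT).trans topEquiv).toMonoidHom
        ((MulEquiv.subgroupCongr hT).trans topEquiv).surjective, fun g => ?_⟩
      obtain ⟨k, hk⟩ := T.2 ⟨g, hT ▸ mem_top g⟩
      exact ⟨k, congrArg Subtype.val hk⟩
    · have htop : (⊤ : Subgroup G) = ⊥ := hO ⊤ inferInstance (by rwa [card_top])
      have h1 : ∀ g : G, g = 1 := fun g => mem_bot.1 (htop ▸ mem_top g)
      haveI : Subsingleton G := ⟨fun a b => (h1 a).trans (h1 b).symm⟩
      exact ⟨inferInstance, fun g => ⟨0, by rw [h1 g, one_pow]⟩⟩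
  rcases S4023.result (p := 2) (fun H L _ _ h => hC H L h) P with h | h | ⟨-, ⟨e⟩⟩ | ⟨h, -⟩
  · exact absurd h hcyc
  · have hsq : ∀ x ∈ (P : Subgroup G), x * x = 1 := fun x hx => by rw [← pow_two]; exact h.2 x hx
    obtain ⟨n, hn⟩ := IsPGroup.iff_card.1 P.2
    rcases Nat.lt_or_ge n 2 with h2 | h2
    · refine absurd ?_ hcyc
      interval_cases n
      · haveI : Subsingleton (P : Subgroup G) := (Nat.card_eq_one_iff_unique.1 hn).1
        infer_instance
      · exact isCyclic_of_prime_card (p := 2) (by rw [hn, pow_one])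
    rcases Nat.eq_or_lt_of_le h2 with h2 | h3
    · rcases klein_case hC hO P hsq (by rw [hn, ← h2]; norm_num) with ⟨-, -, e⟩ | e
      · exact Or.inr (Or.inr (Or.inr (Or.inr (Or.inr (Or.inr (Or.inl e))))))
      · exact Or.inr (Or.inr (Or.inr (Or.inr (Or.inr (Or.inr (Or.inr (Or.inl e)))))))
    · exact big_case hC hO P hsq (by
        rw [hn]; exact le_trans (by norm_num) (Nat.pow_le_pow_right two_pos (show 3 ≤ n from h3)))
  · exact quaternion_case hC hO P e
  · exact absurd rfl h


end Cfsg.Agent.EqualOrderConj
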